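import Mathlib
import Cfsg.Agent.Lib.Helper1.Coprime

/-!
# S3816 (Flavell): `C_{[H,P]}(P) = ⟨C_{[h,P]}(P) : h ∈ H⟩`

Internal setting: `H P : Subgroup G`, `P` of odd prime order `p` normalising the solvable `p'`-group
`H`.  `D P h = [h,P]`, `KK H P = ⟨C_{[h,P]}(P) : h ∈ H⟩`, `Good H P : C_{[H,P]}(P) ≤ KK H P`.
`MC p H P` : `(H,P)` is a minimal counterexample (over all ambient groups in the universe).
All definitions of the farm live here.  Architect: helper24.
-/

set_option autoImplicit false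

namespace Cfsg.Agent.Lib.Helper24.FL

open Subgroup

universe u

variable {G : Type u} [Group G]

/-- `D P h = [h, P]`: the subgroup generated by the `h⁻¹ * (y * h * y⁻¹)`, `y ∈ P`. -/
def D (P : Subgroup G) (h : G) : Subgroup G :=
  Subgroup.closure {c : G | ∃ y ∈ P, c = h⁻¹ * (y * h * y⁻¹)}

/-- `KK H P = ⟨C_{[h,P]}(P) : h ∈ H⟩`. -/
def KK (H P : Subgroup G) : Subgroup G :=
  ⨆ h : H, D P (h : G) ⊓ Subgroup.centralizer (P : Set G)

/-- The statement to be proved: `C_{[H,P]}(P) ≤ ⟨C_{[h,P]}(P) : h ∈ H⟩`. -/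
def Good (H P : Subgroup G) : Prop :=
  ⁅H, P⁆ ⊓ Subgroup.centralizer (P : Set G) ≤ KK H P

/-- The standing hypotheses: `P` of order `p` normalises the solvable `p'`-group `H`. -/
structure Act (p : ℕ) (H P : Subgroup G) : Prop where
  norm : P ≤ Subgroup.normalizer (H : Set G)
  cardP : Nat.card P = p
  cop : (Nat.card H).Coprime p
  solv : Group.IsSolvable H

/-- `(H, P)` is a minimal counterexample. -/
structure MC (p : ℕ) (H P : Subgroup G) : Prop where
  act : Act p H P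
  bad : ¬ Good H P
  ih : ∀ {G' : Type u} [Group G'] [Finite G'] (H' P' : Subgroup G'),
    Nat.card H' < Nat.card H → Act p H' P' → Good H' P'

/-- `N` is a subgroup of `H` normalised by `H` and by `P` (a normal subgroup of `HP` inside `H`). -/
def Nrm (H P N : Subgroup G) : Prop :=
  N ≤ H ∧ H ≤ Subgroup.normalizer (N : Set G) ∧ P ≤ Subgroup.normalizer (N : Set G)

/-- The centraliser of `HP`: `B ≤ Cen H P` means `B` is central in `HP`. -/
def Cen (H P : Subgroup G) : Subgroup G :=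
  Subgroup.centralizer (H : Set G) ⊓ Subgroup.centralizer (P : Set G)

/-- `A` is a minimal non-central normal subgroup of `HP` contained in `H`. -/
structure MinA (H P A : Subgroup G) : Prop where
  nrm : Nrm H P A
  nc : ¬ A ≤ Cen H P
  min : ∀ B : Subgroup G, Nrm H P B → B ≤ A → B ≠ A → B ≤ Cen H P

/-- The `P`-invariant Sylow subgroups of `H` (all primes). -/
def SylInv (H P : Subgroup G) : Set (Subgroup G) :=
  {S | S ≤ H ∧ P ≤ Subgroup.normalizer (S : Set G) ∧
    ∃ s : ℕ, s.Prime ∧ IsPGroup s S ∧ ¬ s ∣ S.relIndex H}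

/-- The configuration `H = M ⋊ Q` of the last case. -/
structure B2 (p : ℕ) (H P M Q : Subgroup G) : Prop where
  mc : MC p H P
  nrmM : Nrm H P M
  sup : M ⊔ Q = H
  PQ : P ≤ Subgroup.normalizer (Q : Set G)
  commQ : ⁅Q, P⁆ = Q
  abM : M ≤ Subgroup.centralizer (M : Set G)
  cop : (Nat.card M).Coprime (Nat.card Q)
  faithful : Q ⊓ Subgroup.centralizer (M : Set G) = ⊥
  irr : ∀ B : Subgroup G, B ≤ M → Q ≤ Subgroup.normalizer (B : Set G) →
    P ≤ Subgroup.normalizer (B : Set G) → B = ⊥ ∨ B = M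
  neM : M ≠ ⊥
  neQ : Q ≠ ⊥
  pM : ∃ r : ℕ, r.Prime ∧ IsPGroup r M
  pQ : ∃ s : ℕ, s.Prime ∧ IsPGroup s Q

theorem Act.coprimeAct {p : ℕ} {H P : Subgroup G} (h : Act p H P) :
    Cfsg.Agent.Lib.Helper1.CoprimeAct P H where
  norm := h.norm
  cop := by rw [h.cardP]; exact h.cop.symm
  solv := Or.inr h.solv

theorem D_inf_le_KK {H P : Subgroup G} {h : G} (hh : h ∈ H) :
    D P h ⊓ Subgroup.centralizer (P : Set G) ≤ KK H P :=
  le_iSup (fun h : H => D P (h : G) ⊓ Subgroup.centralizer (P : Set G)) ⟨h, hh⟩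

theorem KK_le_centralizer (H P : Subgroup G) : KK H P ≤ Subgroup.centralizer (P : Set G) :=
  iSup_le fun _ => inf_le_right

theorem KK_mono {H₀ H : Subgroup G} (P : Subgroup G) (h : H₀ ≤ H) : KK H₀ P ≤ KK H P :=
  iSup_le fun x => D_inf_le_KK (h x.2)

end Cfsg.Agent.Lib.Helper24.FL
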