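import Mathlib
import Cfsg.Agent.Lib.Helper24.FL.Defs

set_option autoImplicit false

namespace Cfsg.Agent.Lib.Helper24.FL

open Subgroup

universe u

variable {G : Type u} [Group G]

/-- `[h,P] ≤ [H,P]` for `h ∈ H`.  Each generator `h⁻¹ * (y * h * y⁻¹) = ⁅h⁻¹, y⁆`. -/
theorem D_le_comm {H P : Subgroup G} {h : G} (hh : h ∈ H) : D P h ≤ ⁅H, P⁆ := by
  unfold D
  rw [Subgroup.closure_le]
  rintro c ⟨y, hy, rfl⟩
  have h1 : h⁻¹ * y * (h⁻¹)⁻¹ * y⁻¹ ∈ ⁅H, P⁆ :=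
    Subgroup.commutator_mem_commutator (H.inv_mem hh) hy
  have h2 : h⁻¹ * (y * h * y⁻¹) = h⁻¹ * y * (h⁻¹)⁻¹ * y⁻¹ := by
    group
  rw [SetLike.mem_coe, h2]
  exact h1

end Cfsg.Agent.Lib.Helper24.FL
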