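import Mathlib
import Cfsg.Agent.Lib.Helper24.FL.Defs
import Cfsg.Agent.Lib.Helper24.FL.L01

set_option autoImplicit false

namespace Cfsg.Agent.Lib.Helper24.FL

open Subgroup

universe u

variable {G : Type u} [Group G]

/-- `[h,P] ≤ H` for `h ∈ H` when `P` normalises `H`
(`Cfsg.Agent.Lib.Helper1.commutator_le_of_le_normalizer`). -/
theorem D_le {H P : Subgroup G} (hn : P ≤ Subgroup.normalizer (H : Set G)) {h : G} (hh : h ∈ H) :
    D P h ≤ H := by
  unfold D
  rw [Subgroup.closure_le]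
  rintro c ⟨y, hy, rfl⟩
  have hyn : y ∈ Subgroup.normalizer (H : Set G) := hn hy
  have h1 : y * h * y⁻¹ ∈ H := (Subgroup.mem_normalizer_iff.mp hyn h).mp hh
  exact H.mul_mem (H.inv_mem hh) h1

end Cfsg.Agent.Lib.Helper24.FL
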