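import Mathlib
import Cfsg.Agent.Lib.Helper24.FL.Defs

set_option autoImplicit false

namespace Cfsg.Agent.Lib.Helper24.FL

open Subgroup

universe u

variable {G : Type u} [Group G]

/-- `P` normalises `[h,P]`: with `a y = h⁻¹ * (y * h * y⁻¹)` one has
`y' * a y * y'⁻¹ = (a y')⁻¹ * a (y' * y)`. -/
theorem D_normalizer (P : Subgroup G) (h : G) :
    P ≤ Subgroup.normalizer ((D P h : Subgroup G) : Set G) := by
  apply Cfsg.Agent.Lib.Helper1.le_normalizer_of_forall_conj_mem
  intro z hz x hx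
  have hle : D P h ≤ (D P h).comap (MulAut.conj z).toMonoidHom := by
    unfold D
    rw [Subgroup.closure_le]
    rintro c ⟨y, hy, rfl⟩
    show (MulAut.conj z) (h⁻¹ * (y * h * y⁻¹)) ∈ Subgroup.closure _
    rw [MulAut.conj_apply]
    have h1 : z * (h⁻¹ * (y * h * y⁻¹)) * z⁻¹
        = (h⁻¹ * (z * h * z⁻¹))⁻¹ * (h⁻¹ * ((z * y) * h * (z * y)⁻¹)) := by group
    rw [h1]
    exact mul_mem (inv_mem (Subgroup.subset_closure ⟨z, hz, rfl⟩))
      (Subgroup.subset_closure ⟨z * y, mul_mem hz hy, rfl⟩)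
  have := hle hx
  simpa [MulAut.conj_apply] using this

end Cfsg.Agent.Lib.Helper24.FL
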