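import Mathlib
import Cfsg.Agent.Lib.Helper24.FL.Defs
import Cfsg.Agent.Lib.Helper24.FL.L01
import Cfsg.Agent.Lib.Helper24.FL.L02
import Cfsg.Agent.Lib.Helper24.FL.L03

set_option autoImplicit false

namespace Cfsg.Agent.Lib.Helper24.FL

open Subgroup

universe u

variable {G : Type u} [Group G]

/-- `[h,P] = [[h,P],P]` (coprime action).  Proof: `L = ⟨P, h⁻¹ P h⟩ = D·P` with `D = D P h ⊴ L`
(`h⁻¹ y h = (h⁻¹ * (y * h * y⁻¹)) * y`), `|L| = |D| p`, so `P` and `h⁻¹ P h` are Sylow in `L`, hence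
`h⁻¹ P h = d⁻¹ P d` for some `d ∈ D` (`L = P D`), so `h * d⁻¹ ∈ N_H(P) = C_H(P)`
(`CoprimeAct.mem_centralizer_of_mem_normalizer`), `h = c * d`, and `D P (c * d) = D P d ≤ ⁅D, P⁆`
since `c` commutes with `P`.  Alternatively: `CoprimeAct.exists_conj_eq` applied to `A := P`,
`K := D P h`, `B := h⁻¹ P h`. -/
theorem D_comm_eq [Finite G] {p : ℕ} [Fact p.Prime] {H P : Subgroup G} (hA : Act p H P) {h : G}
    (hh : h ∈ H) : ⁅D P h, P⁆ = D P h := by
  have hDH : D P h ≤ H := D_le hA.norm hh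
  have hDP : P ≤ Subgroup.normalizer ((D P h : Subgroup G) : Set G) := D_normalizer P h
  have hcopH := hA.coprimeAct
  have hcopD : Cfsg.Agent.Lib.Helper1.CoprimeAct P (D P h) := hcopH.mono hDH hDP
  apply le_antisymm
  · exact Cfsg.Agent.Lib.Helper1.commutator_le_of_le_normalizer hDP
  · -- `h = c * d` with `c` centralising `P` and `d ∈ D P h`
    have hx : ∀ a ∈ P, h⁻¹ * (a * h * a⁻¹) ∈ D P h := by
      intro a ha
      exact Subgroup.subset_closure ⟨a, ha, rfl⟩
    obtain ⟨u, hu, hnorm⟩ := hcopD.exists_mul_mem_normalizer h hx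
    have hcH : h * u ∈ H := mul_mem hh (hDH hu)
    have hcen : h * u ∈ Subgroup.centralizer (P : Set G) :=
      hcopH.mem_centralizer_of_mem_normalizer hcH hnorm
    unfold D
    rw [Subgroup.closure_le]
    rintro c ⟨y, hy, rfl⟩
    have hcomm : y * (h * u) = (h * u) * y := by
      rw [Subgroup.mem_centralizer_iff] at hcen
      exact hcen y hy
    have hy' : y * h = h * u * y * u⁻¹ := by
      calc y * h = y * (h * u) * u⁻¹ := by group
        _ = h * u * y * u⁻¹ := by rw [hcomm]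
    have key : h⁻¹ * (y * h * y⁻¹) = u * y * u⁻¹ * y⁻¹ := by
      rw [hy']
      group
    have hmem := Subgroup.commutator_mem_commutator hu hy
    rw [commutatorElement_def] at hmem
    rw [key]
    exact hmem

end Cfsg.Agent.Lib.Helper24.FL
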