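import Mathlib
import Cfsg.Agent.Lib.Helper24.FL.Defs

set_option autoImplicit false

namespace Cfsg.Agent.Lib.Helper24.FL

open Subgroup

universe u

variable {G : Type u} [Group G]

/-- `C_H(P)` normalises `KK H P`: for `c` commuting with `P`,
`c * (h⁻¹ * (y * h * y⁻¹)) * c⁻¹ = (h * c⁻¹)⁻¹ * (y * (h * c⁻¹) * y⁻¹)`, so conjugation by `c` maps
`D P h ⊓ C(P)` onto `D P (h * c⁻¹) ⊓ C(P)`. -/
theorem KK_normalized {H P : Subgroup G} {c k : G}
    (hc : c ∈ H ⊓ Subgroup.centralizer (P : Set G)) (hk : k ∈ KK H P) :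
    c * k * c⁻¹ ∈ KK H P := by
  obtain ⟨hcH, hcP⟩ := Subgroup.mem_inf.mp hc
  have hcomm : ∀ y ∈ P, y * c = c * y := fun y hy => Subgroup.mem_centralizer_iff.mp hcP y hy
  have key : ∀ h : G, ∀ x ∈ D P h, c * x * c⁻¹ ∈ D P (h * c⁻¹) := by
    intro h x hx
    unfold D at hx ⊢
    induction hx using Subgroup.closure_induction with
    | mem x hx =>
      obtain ⟨y, hy, rfl⟩ := hx
      apply Subgroup.subset_closure
      refine ⟨y, hy, ?_⟩
      have h1 : y * c⁻¹ = c⁻¹ * y := by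
        have := hcomm y hy
        calc y * c⁻¹ = c⁻¹ * (c * y) * c⁻¹ := by group
          _ = c⁻¹ * (y * c) * c⁻¹ := by rw [this]
          _ = c⁻¹ * y := by group
      calc c * (h⁻¹ * (y * h * y⁻¹)) * c⁻¹
          = c * h⁻¹ * (y * h * (y⁻¹ * c⁻¹)) := by group
        _ = c * h⁻¹ * (y * h * (c⁻¹ * y⁻¹)) := by
            have h2 : y⁻¹ * c⁻¹ = c⁻¹ * y⁻¹ := by
              have := hcomm y hy
              calc y⁻¹ * c⁻¹ = (c * y)⁻¹ := by group
                _ = (y * c)⁻¹ := by rw [this]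
                _ = c⁻¹ * y⁻¹ := by group
            rw [h2]
        _ = (h * c⁻¹)⁻¹ * (y * (h * c⁻¹) * y⁻¹) := by group
    | one =>
      have : c * 1 * c⁻¹ = 1 := by group
      rw [this]
      exact Subgroup.one_mem _
    | mul x y _ _ hx hy =>
      have : c * (x * y) * c⁻¹ = (c * x * c⁻¹) * (c * y * c⁻¹) := by group
      rw [this]
      exact Subgroup.mul_mem _ hx hy
    | inv x _ hx =>
      have : c * x⁻¹ * c⁻¹ = (c * x * c⁻¹)⁻¹ := by group
      rw [this]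
      exact Subgroup.inv_mem _ hx
  unfold KK at hk
  refine Subgroup.iSup_induction (fun h : H => D P (h : G) ⊓ Subgroup.centralizer (P : Set G))
    (C := fun x => c * x * c⁻¹ ∈ KK H P) hk ?_ ?_ ?_
  · intro i x hx
    obtain ⟨hxD, hxC⟩ := Subgroup.mem_inf.mp hx
    have h1 : c * x * c⁻¹ ∈ D P ((i : G) * c⁻¹) := key (i : G) x hxD
    have h2 : c * x * c⁻¹ ∈ Subgroup.centralizer (P : Set G) :=
      Subgroup.mul_mem _ (Subgroup.mul_mem _ hcP hxC) (Subgroup.inv_mem _ hcP)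
    have h3 : (i : G) * c⁻¹ ∈ H := H.mul_mem i.2 (H.inv_mem hcH)
    exact D_inf_le_KK h3 (Subgroup.mem_inf.mpr ⟨h1, h2⟩)
  · have : c * 1 * c⁻¹ = 1 := by group
    rw [this]
    exact Subgroup.one_mem _
  · intro x y hx hy
    have : c * (x * y) * c⁻¹ = (c * x * c⁻¹) * (c * y * c⁻¹) := by group
    rw [this]
    exact Subgroup.mul_mem _ hx hy

end Cfsg.Agent.Lib.Helper24.FL
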