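import Mathlib
import Cfsg.Agent.Lib.Helper24.FL.Defs

set_option autoImplicit false

namespace Cfsg.Agent.Lib.Helper24.FL

open Subgroup

universe u

variable {G : Type u} [Group G]

/-- Step 1: in a minimal counterexample `[H,P] = H`.  If `H₁ := ⁅H,P⁆ ≠ H` then `|H₁| < |H|`,
`Act p H₁ P` (`le_normalizer_commutator_right`), so `mc.ih` gives `Good H₁ P`; and
`⁅H₁,P⁆ = H₁` (`CoprimeAct.commutator_commutator_eq`), `KK H₁ P ≤ KK H P` (`KK_mono`): so
`Good H P`, contradiction. -/
theorem MC.comm_eq [Finite G] {p : ℕ} [Fact p.Prime] {H P : Subgroup G} (mc : MC p H P) :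
    ⁅H, P⁆ = H := by
  by_contra hne
  have h1 : ⁅H, P⁆ ≤ H := Cfsg.Agent.Lib.Helper1.commutator_le_of_le_normalizer mc.act.norm
  have h3 : P ≤ Subgroup.normalizer ((⁅H, P⁆ : Subgroup G) : Set G) :=
    Cfsg.Agent.Lib.Helper1.le_normalizer_commutator_right
  have hact : Act p ⁅H, P⁆ P := by
    refine ⟨h3, mc.act.cardP, ?_, ?_⟩
    · exact Nat.Coprime.coprime_dvd_left (Subgroup.card_dvd_of_le h1) mc.act.cop
    · have := mc.act.solv
      exact Group.isSolvable_of_isSolvable_injective (Subgroup.inclusion_injective h1)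
  have hlt : Nat.card (⁅H, P⁆ : Subgroup G) < Nat.card H := by
    have hdvd := Subgroup.card_dvd_of_le h1
    have hpos : 0 < Nat.card H := Nat.card_pos
    rcases Nat.lt_or_ge (Nat.card (⁅H, P⁆ : Subgroup G)) (Nat.card H) with h | h
    · exact h
    · exfalso
      have heq : Nat.card (⁅H, P⁆ : Subgroup G) = Nat.card H :=
        le_antisymm (Nat.le_of_dvd hpos hdvd) h
      have : ⁅H, P⁆ = H := by
        apply SetLike.coe_injective
        apply Set.eq_of_subset_of_ncard_le h1 _ (Set.toFinite _)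
        rw [← Nat.card_coe_set_eq, ← Nat.card_coe_set_eq]
        exact heq.ge
      exact hne this
  have hgood : Good ⁅H, P⁆ P := mc.ih ⁅H, P⁆ P hlt hact
  apply mc.bad
  have h4 : ⁅⁅H, P⁆, P⁆ = ⁅H, P⁆ := mc.act.coprimeAct.commutator_commutator_eq
  unfold Good at hgood ⊢
  rw [h4] at hgood
  exact le_trans hgood (KK_mono P h1)

end Cfsg.Agent.Lib.Helper24.FL
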