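import Mathlib
import Cfsg.Agent.Lib.Helper24.FL.Defs

set_option autoImplicit false

namespace Cfsg.Agent.Lib.Helper24.FL

open Subgroup

universe u

variable {G : Type u} [Group G]

/-- Step 3: proper `P`-invariant subgroups are good (`mc.ih` in the same ambient group, `KK_mono`). -/
theorem MC.sub [Finite G] {p : ℕ} [Fact p.Prime] {H P : Subgroup G} (mc : MC p H P)
    {H₀ : Subgroup G} (h1 : H₀ ≤ H) (h2 : H₀ ≠ H)
    (h3 : P ≤ Subgroup.normalizer (H₀ : Set G)) :
    ⁅H₀, P⁆ ⊓ Subgroup.centralizer (P : Set G) ≤ KK H P := by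
  have hact : Act p H₀ P := by
    refine ⟨h3, mc.act.cardP, ?_, ?_⟩
    · exact Nat.Coprime.coprime_dvd_left (Subgroup.card_dvd_of_le h1) mc.act.cop
    · have := mc.act.solv
      exact Group.isSolvable_of_isSolvable_injective (Subgroup.inclusion_injective h1)
  have hlt : Nat.card H₀ < Nat.card H := by
    have hlt' : H₀ < H := lt_of_le_of_ne h1 h2
    have hdvd := Subgroup.card_dvd_of_le h1
    have hpos : 0 < Nat.card H := Nat.card_pos
    rcases Nat.lt_or_ge (Nat.card H₀) (Nat.card H) with h | h
    · exact h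
    · exfalso
      have heq : Nat.card H₀ = Nat.card H := le_antisymm (Nat.le_of_dvd hpos hdvd) h
      have : H₀ = H := by
        apply SetLike.coe_injective
        apply Set.eq_of_subset_of_ncard_le h1 _ (Set.toFinite _)
        rw [← Nat.card_coe_set_eq, ← Nat.card_coe_set_eq]
        exact heq.ge
      exact h2 this
  have hgood : Good H₀ P := mc.ih H₀ P hlt hact
  exact le_trans hgood (KK_mono P h1)

end Cfsg.Agent.Lib.Helper24.FL
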