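import Mathlib
import Cfsg.Agent.Lib.Helper24.FL.Defs
import Cfsg.Agent.Lib.Helper24.FL.L01
import Cfsg.Agent.Lib.Helper24.FL.L02
import Cfsg.Agent.Lib.Helper24.FL.L03

set_option autoImplicit false

namespace Cfsg.Agent.Lib.Helper24.FL

open Subgroup

universe u

variable {G : Type u} [Group G]

namespace L10

open Cfsg.Agent.Lib.Helper1

/-- the normaliser of an intersection -/
theorem le_normalizer_inf {A X Y : Subgroup G} (hX : A ≤ Subgroup.normalizer (X : Set G))
    (hY : A ≤ Subgroup.normalizer (Y : Set G)) :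
    A ≤ Subgroup.normalizer ((X ⊓ Y : Subgroup G) : Set G) := by
  apply le_normalizer_of_forall_conj_mem
  intro a ha n hn
  obtain ⟨h1, h2⟩ := Subgroup.mem_inf.mp hn
  exact Subgroup.mem_inf.mpr ⟨(Subgroup.mem_normalizer_iff.mp (hX ha) n).mp h1,
    (Subgroup.mem_normalizer_iff.mp (hY ha) n).mp h2⟩

/-- Core of the quotient step, for a normal subgroup `N` of the ambient group `L`, phrased with an
arbitrary injective `ι : L →* G` playing the role of the inclusion. -/
theorem core [Finite G] {p : ℕ} [Fact p.Prime] {H P N : Subgroup G} (act : Act p H P)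
    (hN : Nrm H P N)
    (hgood : ∀ (H' P' : Subgroup (↥(Subgroup.normalizer (N : Set G)) ⧸
        N.subgroupOf (Subgroup.normalizer (N : Set G)))),
      H' = (H.subgroupOf (Subgroup.normalizer (N : Set G))).map
        (QuotientGroup.mk' (N.subgroupOf (Subgroup.normalizer (N : Set G)))) →
      P' = (P.subgroupOf (Subgroup.normalizer (N : Set G))).map
        (QuotientGroup.mk' (N.subgroupOf (Subgroup.normalizer (N : Set G)))) → Good H' P') :
    ∀ c ∈ ⁅H, P⁆ ⊓ Subgroup.centralizer (P : Set G),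
      ∃ k ∈ KK H P, ∃ n ∈ N ⊓ Subgroup.centralizer (P : Set G), c = k * n := by
  classical
  obtain ⟨hNH, hHN, hPN⟩ := hN
  set L : Subgroup G := Subgroup.normalizer (N : Set G) with hL
  set NL : Subgroup ↥L := N.subgroupOf L with hNL
  set π : ↥L →* ↥L ⧸ NL := QuotientGroup.mk' NL with hπ
  have hker : π.ker = NL := QuotientGroup.ker_mk' NL
  have hgood' := hgood _ _ rfl rfl
  intro c hc
  obtain ⟨hc1, hc2⟩ := Subgroup.mem_inf.mp hc
  have hcommH : ⁅H, P⁆ ≤ H := commutator_le_of_le_normalizer act.norm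
  have hcL : c ∈ L := hHN (hcommH hc1)
  -- the image of `c` lies in `⁅H',P'⁆ ⊓ C(P')`
  have h1 : π ⟨c, hcL⟩ ∈ ⁅(H.subgroupOf L).map π, (P.subgroupOf L).map π⁆ := by
    rw [← Subgroup.map_commutator]
    apply Subgroup.mem_map_of_mem
    have h2 : (⁅H.subgroupOf L, P.subgroupOf L⁆).map L.subtype = ⁅H, P⁆ := by
      rw [Subgroup.map_commutator, Subgroup.map_subgroupOf_eq_of_le hHN,
        Subgroup.map_subgroupOf_eq_of_le hPN]
    rw [← h2] at hc1
    obtain ⟨c₀, hc₀, hcc⟩ := hc1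
    have : c₀ = ⟨c, hcL⟩ := Subtype.ext hcc
    rw [← this]; exact hc₀
  have h2 : π ⟨c, hcL⟩ ∈ Subgroup.centralizer (((P.subgroupOf L).map π : Subgroup (↥L ⧸ NL)) :
      Set (↥L ⧸ NL)) := by
    rw [Subgroup.mem_centralizer_iff]
    rintro y' ⟨y₀, hy₀, rfl⟩
    have hy : (y₀ : G) ∈ P := Subgroup.mem_subgroupOf.mp hy₀
    have h3 := (Subgroup.mem_centralizer_iff.mp hc2) (y₀ : G) hy
    have h4 : y₀ * ⟨c, hcL⟩ = ⟨c, hcL⟩ * y₀ := Subtype.ext h3
    rw [← map_mul, ← map_mul, h4]
  have h3 := hgood' (Subgroup.mem_inf.mpr ⟨h1, h2⟩)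
  -- `KK H' P'` lies in the image of `KK H P`
  have h4 : KK ((H.subgroupOf L).map π) ((P.subgroupOf L).map π) ≤
      ((KK H P).subgroupOf L).map π := by
    unfold KK
    apply iSup_le
    rintro ⟨h', h₀, hh₀, rfl⟩
    have hh : (h₀ : G) ∈ H := Subgroup.mem_subgroupOf.mp hh₀
    intro d' hd'
    obtain ⟨hd1, hd2⟩ := Subgroup.mem_inf.mp hd'
    -- `D P' (π h₀) ≤ π (D P h)`
    have h5 : D ((P.subgroupOf L).map π) (π h₀) ≤ ((D P (h₀ : G)).subgroupOf L).map π := by
      unfold D
      rw [Subgroup.closure_le]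
      rintro c' ⟨y', ⟨y₀, hy₀, rfl⟩, rfl⟩
      have hy : (y₀ : G) ∈ P := Subgroup.mem_subgroupOf.mp hy₀
      rw [← map_inv, ← map_mul, ← map_inv, ← map_mul, ← map_mul]
      apply Subgroup.mem_map_of_mem
      rw [Subgroup.mem_subgroupOf]
      exact Subgroup.subset_closure ⟨(y₀ : G), hy, rfl⟩
    obtain ⟨d₀, hd₀, rfl⟩ := h5 hd1
    have hd : (d₀ : G) ∈ D P (h₀ : G) := Subgroup.mem_subgroupOf.mp hd₀
    -- the coprime action of `P` on `D P h`
    have hDH : D P (h₀ : G) ≤ H := D_le act.norm hh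
    have hDP : P ≤ Subgroup.normalizer ((D P (h₀ : G) : Subgroup G) : Set G) := D_normalizer P _
    have hca : CoprimeAct P (D P (h₀ : G)) := act.coprimeAct.mono hDH hDP
    have hx : ∀ a ∈ P, (d₀ : G)⁻¹ * (a * (d₀ : G) * a⁻¹) ∈ D P (h₀ : G) ⊓ N := by
      intro a ha
      have haL : a ∈ L := hPN ha
      apply Subgroup.mem_inf.mpr
      constructor
      · exact mul_mem (inv_mem hd) ((Subgroup.mem_normalizer_iff.mp (hDP ha) _).mp hd)
      · have h6 := (Subgroup.mem_centralizer_iff.mp hd2) (π ⟨a, haL⟩)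
          (Subgroup.mem_map_of_mem _ (Subgroup.mem_subgroupOf.mpr ha))
        have h7 : π (d₀⁻¹ * (⟨a, haL⟩ * d₀ * ⟨a, haL⟩⁻¹)) = 1 := by
          rw [map_mul, map_mul, map_mul, map_inv, map_inv, h6]
          group
        have h8 : d₀⁻¹ * (⟨a, haL⟩ * d₀ * ⟨a, haL⟩⁻¹) ∈ π.ker := MonoidHom.mem_ker.mpr h7
        rw [hker] at h8
        exact Subgroup.mem_subgroupOf.mp h8
    obtain ⟨u, hu, hdu⟩ := hca.exists_mul_mem_centralizer inf_le_left
      (le_normalizer_inf hDP hPN) (d₀ : G) hd hx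
    obtain ⟨hu1, hu2⟩ := Subgroup.mem_inf.mp hu
    have huL : u ∈ L := hHN (hNH hu2)
    have h9 : π (d₀ * ⟨u, huL⟩) = π d₀ := by
      have : π ⟨u, huL⟩ = 1 := by
        rw [← MonoidHom.mem_ker, hker]
        exact Subgroup.mem_subgroupOf.mpr hu2
      rw [map_mul, this, mul_one]
    rw [← h9]
    apply Subgroup.mem_map_of_mem
    rw [Subgroup.mem_subgroupOf]
    exact D_inf_le_KK hh hdu
  obtain ⟨k₀, hk₀, hk⟩ := h4 h3
  have hkK : (k₀ : G) ∈ KK H P := Subgroup.mem_subgroupOf.mp hk₀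
  have hkC : (k₀ : G) ∈ Subgroup.centralizer (P : Set G) := KK_le_centralizer H P hkK
  have hn : k₀⁻¹ * ⟨c, hcL⟩ ∈ π.ker := by
    rw [MonoidHom.mem_ker, map_mul, map_inv, hk]
    group
  rw [hker] at hn
  have hnN : (k₀ : G)⁻¹ * c ∈ N := Subgroup.mem_subgroupOf.mp hn
  refine ⟨(k₀ : G), hkK, (k₀ : G)⁻¹ * c, Subgroup.mem_inf.mpr ⟨hnN, ?_⟩, by group⟩
  exact mul_mem (inv_mem hkC) hc2

/-- the images of `H`, `P` in `N_G(N)/N` satisfy the standing hypotheses, and the image of `H` is
smaller than `H`. -/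
theorem act_quot [Finite G] {p : ℕ} [Fact p.Prime] {H P N : Subgroup G} (act : Act p H P)
    (hN : Nrm H P N) (hN1 : N ≠ ⊥) :
    Act p ((H.subgroupOf (Subgroup.normalizer (N : Set G))).map
        (QuotientGroup.mk' (N.subgroupOf (Subgroup.normalizer (N : Set G)))))
      ((P.subgroupOf (Subgroup.normalizer (N : Set G))).map
        (QuotientGroup.mk' (N.subgroupOf (Subgroup.normalizer (N : Set G))))) ∧
    Nat.card ((H.subgroupOf (Subgroup.normalizer (N : Set G))).map
        (QuotientGroup.mk' (N.subgroupOf (Subgroup.normalizer (N : Set G))))) < Nat.card H := by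
  classical
  have hp : p.Prime := Fact.out
  obtain ⟨hNH, hHN, hPN⟩ := hN
  set L : Subgroup G := Subgroup.normalizer (N : Set G) with hL
  set NL : Subgroup ↥L := N.subgroupOf L with hNL
  set π : ↥L →* ↥L ⧸ NL := QuotientGroup.mk' NL with hπ
  have hker : π.ker = NL := QuotientGroup.ker_mk' NL
  have hπs : Function.Surjective π := QuotientGroup.mk'_surjective NL
  have hcardHL : Nat.card (H.subgroupOf L) = Nat.card H :=
    Nat.card_congr (Subgroup.subgroupOfEquivOfLe hHN).toEquiv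
  have hcardPL : Nat.card (P.subgroupOf L) = Nat.card P :=
    Nat.card_congr (Subgroup.subgroupOfEquivOfLe hPN).toEquiv
  have hcardNL : Nat.card NL = Nat.card N :=
    Nat.card_congr (Subgroup.subgroupOfEquivOfLe (Subgroup.le_normalizer)).toEquiv
  have hNLH : NL ≤ H.subgroupOf L := by
    intro x hx
    exact Subgroup.mem_subgroupOf.mpr (hNH (Subgroup.mem_subgroupOf.mp hx))
  refine ⟨⟨?_, ?_, ?_, ?_⟩, ?_⟩
  · -- normaliser
    calc (P.subgroupOf L).map π ≤ ((Subgroup.normalizer (H : Set G)).subgroupOf L).map π :=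
          Subgroup.map_mono (fun x hx => Subgroup.mem_subgroupOf.mpr
            (act.norm (Subgroup.mem_subgroupOf.mp hx)))
      _ ≤ (Subgroup.normalizer ((H.subgroupOf L : Subgroup ↥L) : Set ↥L)).map π :=
          Subgroup.map_mono (Subgroup.le_normalizer_comap L.subtype)
      _ ≤ Subgroup.normalizer (((H.subgroupOf L).map π : Subgroup (↥L ⧸ NL)) : Set (↥L ⧸ NL)) :=
          Subgroup.le_normalizer_map π
  · -- `|P'| = p`
    have hdvd : Nat.card ((P.subgroupOf L).map π) ∣ p := by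
      have := Subgroup.card_map_dvd (H := P.subgroupOf L) π
      rwa [hcardPL, act.cardP] at this
    rcases (Nat.dvd_prime hp).mp hdvd with h1 | h1
    · exfalso
      have hbot : (P.subgroupOf L).map π = ⊥ := Subgroup.card_eq_one.mp h1
      have hPN' : P ≤ N := by
        intro y hy
        have hyL : y ∈ L := hPN hy
        have h2 : π ⟨y, hyL⟩ ∈ (P.subgroupOf L).map π :=
          Subgroup.mem_map_of_mem _ (Subgroup.mem_subgroupOf.mpr hy)
        rw [hbot, Subgroup.mem_bot, ← MonoidHom.mem_ker, hker] at h2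
        exact Subgroup.mem_subgroupOf.mp h2
      have h3 : Nat.card P ∣ Nat.card H := Subgroup.card_dvd_of_le (hPN'.trans hNH)
      rw [act.cardP] at h3
      have h4 : p ∣ Nat.gcd (Nat.card H) p := Nat.dvd_gcd h3 dvd_rfl
      rw [act.cop] at h4
      exact hp.one_lt.ne' (Nat.dvd_one.mp h4)
    · exact h1
  · -- coprimality
    have hdvd : Nat.card ((H.subgroupOf L).map π) ∣ Nat.card H := by
      have := Subgroup.card_map_dvd (H := H.subgroupOf L) π
      rwa [hcardHL] at this
    exact Nat.Coprime.coprime_dvd_left hdvd act.cop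
  · -- solvability
    have : Group.IsSolvable H := act.solv
    have hs : Group.IsSolvable ↥(H.subgroupOf L) :=
      Group.isSolvable_of_isSolvable_injective
        (f := (Subgroup.subgroupOfEquivOfLe hHN).toMonoidHom)
        (Subgroup.subgroupOfEquivOfLe hHN).injective
    exact Group.isSolvable_of_surjective (π.subgroupMap_surjective (H.subgroupOf L))
  · -- the image is smaller
    have h1 : ((H.subgroupOf L).map π).index = (H.subgroupOf L).index :=
      Subgroup.index_map_eq (H.subgroupOf L) hπs (by rw [hker]; exact hNLH)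
    have h2 := Subgroup.card_mul_index ((H.subgroupOf L).map π)
    have h3 := Subgroup.card_mul_index (H.subgroupOf L)
    have h4 := Subgroup.card_eq_card_quotient_mul_card_subgroup NL
    rw [h1] at h2
    rw [hcardHL] at h3
    rw [hcardNL] at h4
    have hidx : 0 < (H.subgroupOf L).index := Nat.pos_of_ne_zero Subgroup.index_ne_zero_of_finite
    have hN2 : 2 ≤ Nat.card N := by
      have h5 : Nat.card N ≠ 1 := fun h => hN1 (Subgroup.card_eq_one.mp h)
      have h6 : 0 < Nat.card N := Nat.card_pos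
      omega
    -- `|H| * idx = |H'| * idx * |N|`
    have h7 : Nat.card H * (H.subgroupOf L).index =
        (Nat.card ((H.subgroupOf L).map π) * Nat.card N) * (H.subgroupOf L).index := by
      rw [h3, h4, ← h2]; ring
    have h8 : Nat.card H = Nat.card ((H.subgroupOf L).map π) * Nat.card N :=
      Nat.eq_of_mul_eq_mul_right hidx h7
    have h9 : 0 < Nat.card ((H.subgroupOf L).map π) := Nat.card_pos
    rw [h8]
    nlinarith

end L10

/-- Step 2 (quotients).  Let `N ≠ 1` be normal in `HP`, `N ≤ H`.  Work in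
`G' := ↥N.normalizer ⧸ N.subgroupOf N.normalizer` with `H' P'` the images of `H P`:
`Act p H' P'` (`|P'| = p` as `P ⊓ N = ⊥`), `|H'| < |H|`, so `mc.ih` gives `Good H' P'`.
For `c ∈ ⁅H,P⁆ ⊓ C(P)` the image lies in `⁅H',P'⁆ ⊓ C(P') ≤ KK H' P'`; `D P' (π h) = π (D P h)`,
and a `d ∈ D P h` whose image is centralised by `P'` can be corrected by an element of
`D P h ⊓ N` to lie in `C(P)` (`CoprimeAct.exists_mul_mem_centralizer` for `P` acting on `D P h`).
Hence `c ∈ KK H P · N`, `c = k * n`; finally `n = k⁻¹ c ∈ C(P)` as `KK H P ≤ C(P)`. -/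
theorem MC.quot [Finite G] {p : ℕ} [Fact p.Prime] {H P : Subgroup G} (mc : MC p H P)
    {N : Subgroup G} (hN : Nrm H P N) (hN1 : N ≠ ⊥) :
    ∀ c ∈ ⁅H, P⁆ ⊓ Subgroup.centralizer (P : Set G),
      ∃ k ∈ KK H P, ∃ n ∈ N ⊓ Subgroup.centralizer (P : Set G), c = k * n := by
  obtain ⟨hact, hlt⟩ := L10.act_quot mc.act hN hN1
  apply L10.core mc.act hN
  rintro H' P' rfl rfl
  exact mc.ih _ _ hlt hact

end Cfsg.Agent.Lib.Helper24.FL
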