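import Mathlib
import Cfsg.Agent.Lib.Helper24.FL.Defs
import Cfsg.Agent.Lib.Helper24.FL.L10

set_option autoImplicit false

namespace Cfsg.Agent.Lib.Helper24.FL

open Subgroup

universe u

variable {G : Type u} [Group G]

/-- Step 4: for `1 ≠ N ⊴ HP` inside `H`, `C_N(P) ≰ KK H P` (else by `MC.quot` every
`c ∈ ⁅H,P⁆ ⊓ C(P)` is `k * n ∈ KK H P`, i.e. `Good H P`). -/
theorem MC.not_le [Finite G] {p : ℕ} [Fact p.Prime] {H P : Subgroup G} (mc : MC p H P)
    {N : Subgroup G} (hN : Nrm H P N) (hN1 : N ≠ ⊥) :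
    ¬ N ⊓ Subgroup.centralizer (P : Set G) ≤ KK H P := by
  intro hle
  apply mc.bad
  intro c hc
  obtain ⟨k, hk, n, hn, rfl⟩ := mc.quot hN hN1 c hc
  exact mul_mem hk (hle hn)

end Cfsg.Agent.Lib.Helper24.FL
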