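import Mathlib
import Cfsg.Agent.Lib.Helper24.FL.Defs
import Cfsg.Agent.Lib.Helper24.FL.L01
import Cfsg.Agent.Lib.Helper24.FL.L08
import Cfsg.Agent.Lib.Helper24.FL.L10
import Cfsg.Agent.Lib.Helper24.FL.L11

set_option autoImplicit false

namespace Cfsg.Agent.Lib.Helper24.FL

open Subgroup

universe u

variable {G : Type u} [Group G]

namespace L12

open scoped Pointwise

/-- if `C = K · A` (as a set of products `k * n`) with `K, A ≤ C` and `A` an `r`-group, then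
`|C| = |K| r^i`. -/
theorem card_eq_mul_pow [Finite G] (K C A : Subgroup G) (hKC : K ≤ C) (hAC : A ≤ C)
    (hC : ∀ c ∈ C, ∃ k ∈ K, ∃ n ∈ A, c = k * n) {r : ℕ} (hr : r.Prime) (hA : IsPGroup r A) :
    ∃ i : ℕ, Nat.card C = Nat.card K * r ^ i := by
  classical
  have : Fact r.Prime := ⟨hr⟩
  have hset : ((A : Set G) * (K : Set G)) = (C : Set G) := by
    ext c
    constructor
    · rintro ⟨a, ha, k, hk, rfl⟩
      exact C.mul_mem (hAC ha) (hKC hk)
    · intro hc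
      obtain ⟨k, hk, n, hn, hkn⟩ := hC c⁻¹ (C.inv_mem hc)
      refine ⟨n⁻¹, A.inv_mem hn, k⁻¹, K.inv_mem hk, ?_⟩
      have : c = (k * n)⁻¹ := by rw [← hkn, inv_inv]
      simp only [this, mul_inv_rev]
  have h1 := Subgroup.card_mul_eq_card_subgroup_mul_card_quotient K (A : Set G)
  rw [hset] at h1
  -- the image of `A` in `G ⧸ K` is an orbit of `A`
  have himg : ((A : Set G).image (fun g : G => (g : G ⧸ K))) =
      MulAction.orbit ↥A ((1 : G) : G ⧸ K) := by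
    ext q
    constructor
    · rintro ⟨a, ha, rfl⟩
      refine ⟨⟨a, ha⟩, ?_⟩
      change ((a * 1 : G) : G ⧸ K) = _
      rw [mul_one]
    · rintro ⟨a, rfl⟩
      refine ⟨(a : G), a.2, ?_⟩
      change _ = ((a * 1 : G) : G ⧸ K)
      rw [mul_one]
  have h2 : Nat.card ((A : Set G).image (fun g : G => (g : G ⧸ K))) ∣ Nat.card A := by
    rw [himg, Nat.card_coe_set_eq, ← MulAction.index_stabilizer]
    exact Subgroup.index_dvd_card _
  obtain ⟨m, hm⟩ := (IsPGroup.iff_card (p := r) (G := ↥A)).mp hA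
  rw [hm] at h2
  obtain ⟨i, _, hi⟩ := (Nat.dvd_prime_pow hr).mp h2
  refine ⟨i, ?_⟩
  have h3 : Nat.card (C : Set G) = Nat.card C := rfl
  rw [← h3, h1, hi]

end L12

/-- Two nontrivial normal subgroups of `HP` inside `H` of coprime prime-power orders cannot exist:
with `C := ⁅H,P⁆ ⊓ C(P) ≥ K := KK H P` (`KK ≤ ⁅H,P⁆` by `D_le_comm`), `MC.quot` gives
`C = K · (Nᵢ ⊓ C(P))` for `i = 1,2`, so `|C : K|` is a power of `r` and a power of `s`, so
`C = K`, i.e. `Good H P`. -/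
theorem MC.two_primes [Finite G] {p : ℕ} [Fact p.Prime] {H P : Subgroup G} (mc : MC p H P)
    {N₁ N₂ : Subgroup G} (h1 : Nrm H P N₁) (h1' : N₁ ≠ ⊥) (h2 : Nrm H P N₂) (h2' : N₂ ≠ ⊥)
    {r s : ℕ} (hr : r.Prime) (hs : s.Prime) (hrs : r ≠ s) (hN1 : IsPGroup r N₁)
    (hN2 : IsPGroup s N₂) : False := by
  have hHP : ⁅H, P⁆ = H := mc.comm_eq
  have hKC : KK H P ≤ ⁅H, P⁆ ⊓ Subgroup.centralizer (P : Set G) :=
    le_inf (iSup_le fun h => inf_le_left.trans (D_le_comm h.2)) (KK_le_centralizer H P)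
  have hA : ∀ N : Subgroup G, Nrm H P N →
      N ⊓ Subgroup.centralizer (P : Set G) ≤ ⁅H, P⁆ ⊓ Subgroup.centralizer (P : Set G) := by
    intro N hN
    refine le_inf (inf_le_left.trans ?_) inf_le_right
    rw [hHP]
    exact hN.1
  have hp1 : IsPGroup r ↥(N₁ ⊓ Subgroup.centralizer (P : Set G)) := hN1.to_le inf_le_left
  have hp2 : IsPGroup s ↥(N₂ ⊓ Subgroup.centralizer (P : Set G)) := hN2.to_le inf_le_left
  obtain ⟨i, hi⟩ := L12.card_eq_mul_pow (KK H P) (⁅H, P⁆ ⊓ Subgroup.centralizer (P : Set G))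
    (N₁ ⊓ Subgroup.centralizer (P : Set G)) hKC (hA N₁ h1) (mc.quot h1 h1') hr hp1
  obtain ⟨j, hj⟩ := L12.card_eq_mul_pow (KK H P) (⁅H, P⁆ ⊓ Subgroup.centralizer (P : Set G))
    (N₂ ⊓ Subgroup.centralizer (P : Set G)) hKC (hA N₂ h2) (mc.quot h2 h2') hs hp2
  have hKpos : 0 < Nat.card (KK H P) := Nat.card_pos
  have hij : r ^ i = s ^ j := by
    have := hi.symm.trans hj
    exact Nat.eq_of_mul_eq_mul_left hKpos this
  have hi0 : i = 0 := by
    by_contra hne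
    have hdvd : r ∣ s ^ j := by
      rw [← hij]
      exact dvd_pow_self r hne
    have := (Nat.prime_dvd_prime_iff_eq hr hs).mp (hr.dvd_of_dvd_pow hdvd)
    exact hrs this
  rw [hi0, pow_zero, mul_one] at hi
  have heq : KK H P = ⁅H, P⁆ ⊓ Subgroup.centralizer (P : Set G) :=
    Subgroup.eq_of_le_of_card_ge hKC hi.le
  exact mc.bad (by unfold Good; rw [← heq])

end Cfsg.Agent.Lib.Helper24.FL
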