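import Mathlib
import Cfsg.Agent.Lib.Helper24.FL.Defs
import Cfsg.Agent.Lib.Helper24.FL.L01
import Cfsg.Agent.Lib.Helper24.FL.L02
import Cfsg.Agent.Lib.Helper24.FL.L03

set_option autoImplicit false

namespace Cfsg.Agent.Lib.Helper24.FL

open Subgroup
open scoped commutatorElement

universe u

variable {G : Type u} [Group G]

namespace L13

/-- Class-2 data: commutators of `H` are central in `H` and fixed by `P`; `P` normalises `H`. -/
structure C2 (H P : Subgroup G) : Prop where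
  cH : ∀ a ∈ H, ∀ b ∈ H, ∀ c ∈ H, ⁅a, b⁆ * c = c * ⁅a, b⁆
  cP : ∀ a ∈ H, ∀ b ∈ H, ∀ y ∈ P, y * ⁅a, b⁆ * y⁻¹ = ⁅a, b⁆
  nrm : ∀ y ∈ P, ∀ a ∈ H, y * a * y⁻¹ ∈ H

theorem comm_mem {H : Subgroup G} {a b : G} (ha : a ∈ H) (hb : b ∈ H) : ⁅a, b⁆ ∈ H := by
  rw [commutatorElement_def]
  exact H.mul_mem (H.mul_mem (H.mul_mem ha hb) (H.inv_mem ha)) (H.inv_mem hb)

theorem bil_left {H P : Subgroup G} (h : C2 H P) {a b c : G} (ha : a ∈ H) (hb : b ∈ H)
    (hc : c ∈ H) : ⁅a * b, c⁆ = ⁅a, c⁆ * ⁅b, c⁆ := by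
  have e : ⁅a * b, c⁆ = a * ⁅b, c⁆ * a⁻¹ * ⁅a, c⁆ := by
    simp only [commutatorElement_def]; group
  rw [e]
  have h1 : a * ⁅b, c⁆ = ⁅b, c⁆ * a := (h.cH b hb c hc a ha).symm
  rw [h1, mul_inv_cancel_right]
  exact h.cH b hb c hc ⁅a, c⁆ (comm_mem ha hc)

theorem bil_right {H P : Subgroup G} (h : C2 H P) {a b c : G} (ha : a ∈ H) (hb : b ∈ H)
    (hc : c ∈ H) : ⁅a, b * c⁆ = ⁅a, b⁆ * ⁅a, c⁆ := by
  have e : ⁅a, b * c⁆ = ⁅a, b⁆ * (b * ⁅a, c⁆ * b⁻¹) := by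
    simp only [commutatorElement_def]; group
  rw [e]
  have h1 : b * ⁅a, c⁆ = ⁅a, c⁆ * b := (h.cH a ha c hc b hb).symm
  rw [h1, mul_inv_cancel_right]

theorem inv_left {H P : Subgroup G} (h : C2 H P) {a b : G} (ha : a ∈ H) (hb : b ∈ H) :
    ⁅a⁻¹, b⁆ = ⁅a, b⁆⁻¹ := by
  have e := bil_left h ha (H.inv_mem ha) hb
  rw [mul_inv_cancel, commutatorElement_one_left] at e
  exact (inv_eq_of_mul_eq_one_right e.symm).symm

theorem inv_right {H P : Subgroup G} (h : C2 H P) {a b : G} (ha : a ∈ H) (hb : b ∈ H) :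
    ⁅a, b⁻¹⁆ = ⁅a, b⁆⁻¹ := by
  have e := bil_right h ha hb (H.inv_mem hb)
  rw [mul_inv_cancel, commutatorElement_one_right] at e
  exact (inv_eq_of_mul_eq_one_right e.symm).symm

theorem conj_inv {H P : Subgroup G} (h : C2 H P) {a b y : G} (ha : a ∈ H) (hb : b ∈ H)
    (hy : y ∈ P) : ⁅y * a * y⁻¹, y * b * y⁻¹⁆ = ⁅a, b⁆ := by
  have e : ⁅y * a * y⁻¹, y * b * y⁻¹⁆ = y * ⁅a, b⁆ * y⁻¹ := by
    simp only [commutatorElement_def]; group
  rw [e, h.cP a ha b hb y hy]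

/-- If all `D P h` are abelian then `⁅h, y h y⁻¹⁆ = 1`. -/
theorem star {H P : Subgroup G} (h2 : C2 H P) {p : ℕ} (hcard : Nat.card P = p)
    (hcop : (Nat.card H).Coprime p) [Finite G]
    (hab : ∀ h ∈ H, ∀ x ∈ D P h, ∀ z ∈ D P h, x * z = z * x)
    {h : G} (hh : h ∈ H) {y : G} (hy : y ∈ P) : ⁅h, y * h * y⁻¹⁆ = 1 := by
  classical
  -- the function `f`
  set f : G → G := fun u => ⁅h, u * h * u⁻¹⁆ with hf
  have hfH : ∀ u ∈ P, f u ∈ H := fun u hu => comm_mem hh (h2.nrm u hu h hh)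
  have hf1 : f 1 = 1 := by simp [hf]
  -- key relation
  have key : ∀ a ∈ P, ∀ b ∈ P, f (a⁻¹ * b) = (f a)⁻¹ * f b := by
    intro a ha b hb
    have hha : a * h * a⁻¹ ∈ H := h2.nrm a ha h hh
    have hhb : b * h * b⁻¹ ∈ H := h2.nrm b hb h hh
    have hhi : h⁻¹ ∈ H := H.inv_mem hh
    have hx : h⁻¹ * (a * h * a⁻¹) ∈ D P h := Subgroup.subset_closure ⟨a, ha, rfl⟩
    have hz : h⁻¹ * (b * h * b⁻¹) ∈ D P h := Subgroup.subset_closure ⟨b, hb, rfl⟩
    have hcomm : ⁅h⁻¹ * (a * h * a⁻¹), h⁻¹ * (b * h * b⁻¹)⁆ = 1 :=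
      commutatorElement_eq_one_iff_commute.mpr (hab h hh _ hx _ hz)
    rw [bil_left h2 hhi hha (H.mul_mem hhi hhb), bil_right h2 hhi hhi hhb,
      bil_right h2 hha hhi hhb, commutatorElement_self, one_mul,
      inv_left h2 hh hhb, inv_right h2 hha hh, commutatorElement_inv (a * h * a⁻¹) h] at hcomm
    -- hcomm : ⁅h, b h b⁻¹⁆⁻¹ * (⁅h, a h a⁻¹⁆ * ⁅a h a⁻¹, b h b⁻¹⁆) = 1
    have hconj : ⁅a * h * a⁻¹, b * h * b⁻¹⁆ = f (a⁻¹ * b) := by
      have e := conj_inv h2 hha hhb (P.inv_mem ha)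
      rw [← e, hf]
      congr 1 <;> group
    rw [hconj] at hcomm
    have e2 : f b = f a * f (a⁻¹ * b) := by
      have := eq_of_inv_mul_eq_one hcomm
      simpa [hf] using this
    rw [e2, inv_mul_cancel_left]
  have hfinv : ∀ a ∈ P, f a⁻¹ = (f a)⁻¹ := by
    intro a ha
    have := key a ha 1 P.one_mem
    rwa [mul_one, hf1, mul_one] at this
  have hmul : ∀ a ∈ P, ∀ b ∈ P, f (a * b) = f a * f b := by
    intro a ha b hb
    have := key a⁻¹ (P.inv_mem ha) b hb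
    rwa [inv_inv, hfinv a ha, inv_inv] at this
  -- the homomorphism
  let φ : ↥P →* G := MonoidHom.mk' (fun u => f (u : G)) (by
    intro a b
    simpa using hmul a a.2 b b.2)
  have hφ : ∀ u : ↥P, φ u = f (u : G) := fun u => rfl
  have hp1 : (f y) ^ p = 1 := by
    have e1 : (⟨y, hy⟩ : ↥P) ^ p = 1 := by
      rw [← hcard]; exact pow_card_eq_one'
    have e2 := congrArg φ e1
    rw [map_pow, map_one, hφ] at e2
    exact e2
  have hp2 : (f y) ^ (Nat.card H) = 1 := by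
    have e1 : (⟨f y, hfH y hy⟩ : ↥H) ^ (Nat.card H) = 1 := pow_card_eq_one'
    have e2 := congrArg H.subtype e1
    rw [map_pow, map_one] at e2
    exact e2
  have := (pow_eq_one_iff_of_coprime (a := f y) hcop).mp ⟨hp2, hp1⟩
  exact this

end L13

/-- Class-2 key lemma (this is where `p` odd is used).  Suppose every `D P h` (`h ∈ H`) is abelian.
Commutators in `H` are central in `H` and fixed by `P`, so `⁅·,·⁆` is bilinear and `P`-invariant.
For `h ∈ H` put `f u := ⁅h, u h u⁻¹⁆` (`u ∈ P`).  `D P h` abelian gives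
`f (y' y⁻¹) = f y' * (f y)⁻¹`, so `f : P → ⁅H,H⁆` is a homomorphism from a group of order `p` to a
`p'`-group, hence trivial: `⁅h, y h y⁻¹⁆ = 1` for all `h ∈ H`, `y ∈ P`.  Polarising
(`h ↦ h * k`): `⁅h, y k y⁻¹⁆ = ⁅y h y⁻¹, k⁆ = ⁅h, y⁻¹ k y⁆`, so `(y k y⁻¹) * (y⁻¹ k y)⁻¹ ∈ Z(H)`,
hence `k⁻¹ * (y² k y⁻²) ∈ Z(H)` for all `k`, `y`; as `p` is odd every element of `P` is a square, so
`⁅H,P⁆ ≤ Z(H)`, `H = ⁅H,P⁆` abelian, contradiction. -/
theorem class2_key [Finite G] {p : ℕ} [Fact p.Prime] (hp2 : p ≠ 2) {H P : Subgroup G}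
    (hA : Act p H P) (hHP : ⁅H, P⁆ = H) (hcl : ⁅H, H⁆ ≤ Cen H P)
    (hna : ¬ H ≤ Subgroup.centralizer (H : Set G)) :
    ∃ h ∈ H, ¬ D P h ≤ Subgroup.centralizer ((D P h : Subgroup G) : Set G) := by
  classical
  by_contra hcon
  push Not at hcon
  -- abelian hypothesis in elementwise form
  have hab : ∀ h ∈ H, ∀ x ∈ D P h, ∀ z ∈ D P h, x * z = z * x := by
    intro h hh x hx z hz
    have := hcon h hh hz
    rw [Subgroup.mem_centralizer_iff] at this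
    exact this x hx
  -- class-2 data
  have hnrm : ∀ y ∈ P, ∀ a ∈ H, y * a * y⁻¹ ∈ H := by
    intro y hy a ha
    have := hA.norm hy
    rw [Subgroup.mem_normalizer_iff] at this
    exact (this a).mp ha
  have h2 : L13.C2 H P := by
    refine ⟨?_, ?_, hnrm⟩
    · intro a ha b hb c hc
      have hm : ⁅a, b⁆ ∈ Cen H P := hcl (Subgroup.commutator_mem_commutator ha hb)
      have hm1 : ⁅a, b⁆ ∈ Subgroup.centralizer (H : Set G) := hm.1
      rw [Subgroup.mem_centralizer_iff] at hm1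
      exact (hm1 c hc).symm
    · intro a ha b hb y hy
      have hm : ⁅a, b⁆ ∈ Cen H P := hcl (Subgroup.commutator_mem_commutator ha hb)
      have hm2 : ⁅a, b⁆ ∈ Subgroup.centralizer (P : Set G) := hm.2
      rw [Subgroup.mem_centralizer_iff] at hm2
      rw [hm2 y hy, mul_inv_cancel_right]
  have hstar : ∀ h ∈ H, ∀ y ∈ P, ⁅h, y * h * y⁻¹⁆ = 1 := fun h hh y hy =>
    L13.star h2 hA.cardP hA.cop hab hh hy
  -- polarisation
  have hpol : ∀ h ∈ H, ∀ k ∈ H, ∀ y ∈ P, ⁅h, y * k * y⁻¹⁆ = ⁅h, y⁻¹ * k * y⁆ := by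
    intro h hh k hk y hy
    have hhy := hnrm y hy h hh
    have hky := hnrm y hy k hk
    have e := hstar (h * k) (H.mul_mem hh hk) y hy
    have e' : y * (h * k) * y⁻¹ = (y * h * y⁻¹) * (y * k * y⁻¹) := by group
    rw [e', L13.bil_left h2 hh hk (H.mul_mem hhy hky), L13.bil_right h2 hh hhy hky,
      L13.bil_right h2 hk hhy hky, hstar h hh y hy, hstar k hk y hy, one_mul, mul_one] at e
    have e3 : ⁅h, y * k * y⁻¹⁆ = ⁅y * h * y⁻¹, k⁆ := by
      rw [← commutatorElement_inv k (y * h * y⁻¹)]  -- ⁅k, yhy⁻¹⁆⁻¹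
      exact eq_inv_of_mul_eq_one_left e
    rw [e3]
    have e4 := L13.conj_inv h2 hhy hk (P.inv_mem hy)
    rw [← e4]
    congr 1 <;> group
  -- `w` is central
  have hw : ∀ k ∈ H, ∀ y ∈ P, ∀ h ∈ H,
      h * ((y * k * y⁻¹) * (y⁻¹ * k * y)⁻¹) = ((y * k * y⁻¹) * (y⁻¹ * k * y)⁻¹) * h := by
    intro k hk y hy h hh
    have hky := hnrm y hy k hk
    have hky' : y⁻¹ * k * y ∈ H := by
      have := hnrm y⁻¹ (P.inv_mem hy) k hk
      simpa using this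
    have e : ⁅h, (y * k * y⁻¹) * (y⁻¹ * k * y)⁻¹⁆ = 1 := by
      rw [L13.bil_right h2 hh hky (H.inv_mem hky'), L13.inv_right h2 hh hky',
        hpol h hh k hk y hy, mul_inv_cancel]
    exact commutatorElement_eq_one_iff_commute.mp e
  -- conjugate by `y`
  have hsq : ∀ k ∈ H, ∀ y ∈ P, ∀ h ∈ H,
      h * ((y * y * k * (y * y)⁻¹) * k⁻¹) = ((y * y * k * (y * y)⁻¹) * k⁻¹) * h := by
    intro k hk y hy h hh
    have hh0 : y⁻¹ * h * y ∈ H := by
      have := hnrm y⁻¹ (P.inv_mem hy) h hh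
      simpa using this
    have e := hw k hk y hy (y⁻¹ * h * y) hh0
    have e1 : h * ((y * y * k * (y * y)⁻¹) * k⁻¹)
        = y * ((y⁻¹ * h * y) * ((y * k * y⁻¹) * (y⁻¹ * k * y)⁻¹)) * y⁻¹ := by group
    have e2 : ((y * y * k * (y * y)⁻¹) * k⁻¹) * h
        = y * (((y * k * y⁻¹) * (y⁻¹ * k * y)⁻¹) * (y⁻¹ * h * y)) * y⁻¹ := by group
    rw [e1, e2, e]
  -- every element of `P` is a square
  have hodd : p % 2 = 1 := by
    rcases (Fact.out : p.Prime).eq_two_or_odd with h | h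
    · exact absurd h hp2
    · exact h
  have hsquare : ∀ u ∈ P, ∃ y ∈ P, u = y * y := by
    intro u hu
    refine ⟨u ^ ((p + 1) / 2), P.pow_mem hu _, ?_⟩
    have hup : u ^ p = 1 := by
      have e1 : (⟨u, hu⟩ : ↥P) ^ p = 1 := by
        rw [← hA.cardP]; exact pow_card_eq_one'
      have e2 := congrArg Subtype.val e1
      simpa using e2
    rw [← pow_add]
    have : (p + 1) / 2 + (p + 1) / 2 = p + 1 := by omega
    rw [this, pow_succ, hup, one_mul]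
  have hcen : ∀ k ∈ H, ∀ u ∈ P, (u * k * u⁻¹) * k⁻¹ ∈ Subgroup.centralizer (H : Set G) := by
    intro k hk u hu
    obtain ⟨y, hy, rfl⟩ := hsquare u hu
    rw [Subgroup.mem_centralizer_iff]
    intro h hh
    exact hsq k hk y hy h hh
  have hle : ⁅H, P⁆ ≤ Subgroup.centralizer (H : Set G) := by
    rw [Subgroup.commutator_le]
    intro k hk u hu
    have hc := hcen k⁻¹ (H.inv_mem hk) u hu
    have hck : k * ((u * k⁻¹ * u⁻¹) * (k⁻¹)⁻¹) = ((u * k⁻¹ * u⁻¹) * (k⁻¹)⁻¹) * k := by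
      rw [Subgroup.mem_centralizer_iff] at hc
      exact hc k hk
    have e : ⁅k, u⁆ = k * ((u * k⁻¹ * u⁻¹) * (k⁻¹)⁻¹) * k⁻¹ := by
      rw [commutatorElement_def]; group
    rw [e, hck, mul_inv_cancel_right]
    exact hc
  exact hna (hHP.symm.le.trans hle)

end Cfsg.Agent.Lib.Helper24.FL
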