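import Mathlib
import Cfsg.Agent.Lib.Helper24.FL.Defs
import Cfsg.Agent.Lib.Helper24.FL.L11
import Cfsg.Agent.Lib.Helper1.CoprimeAbelian

set_option autoImplicit false

namespace Cfsg.Agent.Lib.Helper24.FL

open Subgroup

universe u

variable {G : Type u} [Group G]

/-- In a minimal counterexample `Z(H) ≤ C(P)`.  `Z := H ⊓ C(H)` is abelian and `P`-invariant, so
`Z = (Z ⊓ C(P)) · ⁅Z,P⁆` and `⁅Z,P⁆ ⊓ C(P) = ⊥`
(`Cfsg.Agent.Lib.Helper1.abelian_centralizer_inf_commutator_eq_bot`).  `N := ⁅Z,P⁆` is central in `H`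
and `P`-invariant, so `Nrm H P N`; `N ⊓ C(P) = ⊥ ≤ KK`, so `N = ⊥` by `MC.not_le`. -/
theorem MC.center_le [Finite G] {p : ℕ} [Fact p.Prime] {H P : Subgroup G} (mc : MC p H P) :
    H ⊓ Subgroup.centralizer (H : Set G) ≤ Subgroup.centralizer (P : Set G) := by
  classical
  set Z : Subgroup G := H ⊓ Subgroup.centralizer (H : Set G) with hZdef
  have hZH : Z ≤ H := inf_le_left
  have hZc : ∀ z ∈ Z, ∀ h ∈ H, h * z = z * h := fun z hz h hh =>
    (Subgroup.mem_centralizer_iff.mp (Subgroup.mem_inf.mp hz).2) h hh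
  -- `P` normalises `Z`
  have hPZ : P ≤ Subgroup.normalizer (Z : Set G) := by
    apply Cfsg.Agent.Lib.Helper1.le_normalizer_of_forall_conj_mem
    intro y hy z hz
    have hyN := mc.act.norm hy
    have hzH : y * z * y⁻¹ ∈ H := (Subgroup.mem_normalizer_iff.mp hyN z).mp (hZH hz)
    refine Subgroup.mem_inf.mpr ⟨hzH, ?_⟩
    rw [Subgroup.mem_centralizer_iff]
    intro h hh
    have hh' : y⁻¹ * h * y ∈ H := by
      have := (Subgroup.mem_normalizer_iff.mp (inv_mem hyN) h).mp hh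
      simpa using this
    have hc := hZc z hz _ hh'
    calc h * (y * z * y⁻¹) = y * ((y⁻¹ * h * y) * z) * y⁻¹ := by group
      _ = y * (z * (y⁻¹ * h * y)) * y⁻¹ := by rw [hc]
      _ = y * z * y⁻¹ * h := by group
  haveI : IsMulCommutative ↥Z := ⟨⟨fun a b => by
    apply Subtype.ext
    show (a : G) * (b : G) = (b : G) * (a : G)
    exact hZc b b.2 a (hZH a.2)⟩⟩
  have hcop : (Nat.card P).Coprime (Nat.card Z) := by
    rw [mc.act.cardP]
    exact (Nat.Coprime.coprime_dvd_left (Subgroup.card_dvd_of_le hZH) mc.act.cop).symm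
  have hbot := Cfsg.Agent.Lib.Helper1.abelian_centralizer_inf_commutator_eq_bot P Z hPZ hcop
  have hNZ : ⁅Z, P⁆ ≤ Z := Cfsg.Agent.Lib.Helper1.commutator_le_of_le_normalizer hPZ
  have hNrm : Nrm H P ⁅Z, P⁆ := by
    refine ⟨hNZ.trans hZH, ?_, Cfsg.Agent.Lib.Helper1.le_normalizer_commutator_right⟩
    apply Cfsg.Agent.Lib.Helper1.le_normalizer_of_forall_conj_mem
    intro h hh n hn
    have hc := hZc n (hNZ hn) h hh
    have : h * n * h⁻¹ = n := by rw [hc]; group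
    rw [this]; exact hn
  have hN1 : ⁅Z, P⁆ = ⊥ := by
    by_contra hne
    apply mc.not_le hNrm hne
    intro x hx
    have hx' : x ∈ (Z ⊓ Subgroup.centralizer (P : Set G)) ⊓ ⁅Z, P⁆ :=
      Subgroup.mem_inf.mpr ⟨Subgroup.mem_inf.mpr ⟨hNZ (Subgroup.mem_inf.mp hx).1,
        (Subgroup.mem_inf.mp hx).2⟩, (Subgroup.mem_inf.mp hx).1⟩
    rw [hbot, Subgroup.mem_bot] at hx'
    rw [hx']; exact one_mem _
  intro z hz
  rw [Subgroup.mem_centralizer_iff]
  intro y hy
  have h1 := Subgroup.commutator_mem_commutator (H₁ := Z) (H₂ := P) hz hy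
  rw [hN1, Subgroup.mem_bot, commutatorElement_eq_one_iff_commute] at h1
  exact h1.eq.symm

end Cfsg.Agent.Lib.Helper24.FL
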