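import Mathlib
import Cfsg.Agent.Lib.Helper24.FL.Defs
import Cfsg.Agent.Lib.Helper24.FL.L08
import Cfsg.Agent.Lib.Helper24.FL.L11
import Cfsg.Agent.Lib.Helper24.FL.L13
import Cfsg.Agent.Lib.Helper24.FL.L14
import Cfsg.Agent.Lib.Helper1.CoprimeAbelian

set_option autoImplicit false

namespace Cfsg.Agent.Lib.Helper24.FL

open Subgroup

universe u

variable {G : Type u} [Group G]

/-- Case "class ≤ 2".  By `MC.center_le`, `⁅H,H⁆ ≤ Z(H) ≤ C(P)`, so `⁅H,H⁆ ≤ Cen H P`.
If `H` is abelian then `H = ⁅H,P⁆` (`MC.comm_eq`) has `H ⊓ C(P) = ⊥`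
(`abelian_centralizer_inf_commutator_eq_bot`), so `Good H P` trivially.  Otherwise `class2_key`
gives `h ∈ H` with `D P h` nonabelian; `N := ⁅D P h, D P h⁆ ≠ ⊥` is central in `HP`, so
`Nrm H P N`, and `N ≤ D P h ⊓ C(P) ≤ KK H P` (`D_inf_le_KK`), contradicting `MC.not_le`. -/
theorem MC.class2_false [Finite G] {p : ℕ} [Fact p.Prime] (hp2 : p ≠ 2) {H P : Subgroup G}
    (mc : MC p H P) (hcl : ⁅H, H⁆ ≤ Subgroup.centralizer (H : Set G)) : False := by
  classical
  have hHH : ⁅H, H⁆ ≤ H := by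
    rw [Subgroup.commutator_le]
    intro a ha b hb
    rw [commutatorElement_def]
    exact mul_mem (mul_mem (mul_mem ha hb) (inv_mem ha)) (inv_mem hb)
  have hZ := MC.center_le mc
  have hclCen : ⁅H, H⁆ ≤ Cen H P := by
    intro x hx
    exact Subgroup.mem_inf.mpr ⟨hcl hx, hZ (Subgroup.mem_inf.mpr ⟨hHH hx, hcl hx⟩)⟩
  have hHP := MC.comm_eq mc
  by_cases hab : H ≤ Subgroup.centralizer (H : Set G)
  · -- abelian case
    haveI : IsMulCommutative ↥H := ⟨⟨fun a b => by
      apply Subtype.ext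
      show (a : G) * (b : G) = (b : G) * (a : G)
      exact (Subgroup.mem_centralizer_iff.mp (hab b.2) a a.2)⟩⟩
    have hcop : (Nat.card P).Coprime (Nat.card H) := by
      rw [mc.act.cardP]; exact mc.act.cop.symm
    have hbot := Cfsg.Agent.Lib.Helper1.abelian_centralizer_inf_commutator_eq_bot P H
      mc.act.norm hcop
    apply mc.bad
    intro x hx
    have hx' : x ∈ (H ⊓ Subgroup.centralizer (P : Set G)) ⊓ ⁅H, P⁆ := by
      have hxH : x ∈ H := by rw [← hHP]; exact (Subgroup.mem_inf.mp hx).1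
      exact Subgroup.mem_inf.mpr ⟨Subgroup.mem_inf.mpr ⟨hxH, (Subgroup.mem_inf.mp hx).2⟩,
        (Subgroup.mem_inf.mp hx).1⟩
    rw [hbot, Subgroup.mem_bot] at hx'
    rw [hx']; exact one_mem _
  · -- nonabelian case
    obtain ⟨h, hh, hna⟩ := class2_key hp2 mc.act hHP hclCen hab
    have hDH : D P h ≤ H := by
      unfold D
      rw [Subgroup.closure_le]
      rintro c ⟨y, hy, rfl⟩
      have hyN := mc.act.norm hy
      have h1 : y * h * y⁻¹ ∈ H := (Subgroup.mem_normalizer_iff.mp hyN h).mp hh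
      exact mul_mem (inv_mem hh) h1
    have hNle : ⁅D P h, D P h⁆ ≤ ⁅H, H⁆ := Subgroup.commutator_mono hDH hDH
    have hND : ⁅D P h, D P h⁆ ≤ D P h := by
      rw [Subgroup.commutator_le]
      intro a ha b hb
      rw [commutatorElement_def]
      exact mul_mem (mul_mem (mul_mem ha hb) (inv_mem ha)) (inv_mem hb)
    have hN1 : ⁅D P h, D P h⁆ ≠ ⊥ := by
      intro h0
      apply hna
      intro a ha
      rw [Subgroup.mem_centralizer_iff]
      intro b hb
      have h1 := Subgroup.commutator_mem_commutator (H₁ := D P h) (H₂ := D P h) hb ha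
      rw [h0, Subgroup.mem_bot, commutatorElement_eq_one_iff_commute] at h1
      exact h1.eq
    have hNcen : ∀ n ∈ ⁅D P h, D P h⁆, ∀ g : G, (g ∈ H ∨ g ∈ P) → g * n * g⁻¹ = n := by
      intro n hn g hg
      have hnC := hclCen (hNle hn)
      have hc : g * n = n * g := by
        rcases hg with hg | hg
        · exact (Subgroup.mem_centralizer_iff.mp (Subgroup.mem_inf.mp hnC).1) g hg
        · exact (Subgroup.mem_centralizer_iff.mp (Subgroup.mem_inf.mp hnC).2) g hg
      rw [hc]; group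
    have hNrm : Nrm H P ⁅D P h, D P h⁆ := by
      refine ⟨hNle.trans hHH, ?_, ?_⟩
      · apply Cfsg.Agent.Lib.Helper1.le_normalizer_of_forall_conj_mem
        intro g hg n hn
        rw [hNcen n hn g (Or.inl hg)]; exact hn
      · apply Cfsg.Agent.Lib.Helper1.le_normalizer_of_forall_conj_mem
        intro g hg n hn
        rw [hNcen n hn g (Or.inr hg)]; exact hn
    apply mc.not_le hNrm hN1
    intro x hx
    have hxN := (Subgroup.mem_inf.mp hx).1
    exact D_inf_le_KK hh (Subgroup.mem_inf.mpr ⟨hND hxN, (Subgroup.mem_inf.mp hx).2⟩)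

end Cfsg.Agent.Lib.Helper24.FL
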