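import Mathlib
import Cfsg.Agent.Lib.Helper1.Coprime
import Cfsg.Agent.Lib.Helper24.FL.Defs
import Cfsg.Agent.Lib.Helper24.FL.L02
import Cfsg.Agent.Lib.Helper24.FL.L03
import Cfsg.Agent.Lib.Helper24.FL.L04
import Cfsg.Agent.Lib.Helper24.FL.L08
import Cfsg.Agent.Lib.Helper24.FL.L09
import Cfsg.Agent.Lib.Helper24.FL.L11
import Cfsg.Agent.Lib.Helper24.FL.L14
import Cfsg.Agent.Lib.Helper24.FL.L15

set_option autoImplicit false

namespace Cfsg.Agent.Lib.Helper24.FL

open Subgroup
open scoped commutatorElement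

universe u

namespace L16

section generic
variable {K : Type*} [Group K]

/-- in a finite nilpotent group, `X ⊔ K' = ⊤` forces `X = ⊤`. -/
theorem eq_top_of_sup_commutator [Finite K] [Group.IsNilpotent K] {X : Subgroup K}
    (h : X ⊔ commutator K = ⊤) : X = ⊤ := by
  by_contra hX
  obtain ⟨M, hM, hXM⟩ := (eq_top_or_exists_le_coatom X).resolve_left hX
  have hnil : Group.IsNilpotent K := inferInstance
  have q := (Group.isNilpotent_of_finite_tfae (G := K)).out 0 2
  have hMn : M.Normal := (q.mp hnil) M hM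
  have hsimple : IsSimpleGroup (K ⧸ M) := by
    refine { exists_pair_ne := ?_, eq_bot_or_eq_top_of_normal := ?_ }
    · obtain ⟨x, hx⟩ : ∃ x : K, x ∉ M := by
        by_contra hcon
        push Not at hcon
        exact hM.1 (eq_top_iff.mpr fun x _ => hcon x)
      refine ⟨(x : K ⧸ M), 1, ?_⟩
      intro h1
      exact hx ((QuotientGroup.eq_one_iff x).mp h1)
    · intro N' _
      have h1 : M ≤ N'.comap (QuotientGroup.mk' M) := by
        intro x hx
        rw [Subgroup.mem_comap]
        have : (QuotientGroup.mk' M) x = 1 := (QuotientGroup.eq_one_iff x).mpr hx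
        rw [this]; exact one_mem _
      rcases eq_or_lt_of_le h1 with h2 | h2
      · left
        rw [eq_bot_iff]
        intro q hq
        obtain ⟨x, rfl⟩ := QuotientGroup.mk'_surjective M q
        have hx : x ∈ N'.comap (QuotientGroup.mk' M) := hq
        rw [← h2] at hx
        exact (Subgroup.mem_bot).mpr ((QuotientGroup.eq_one_iff x).mpr hx)
      · right
        have h3 := hM.2 _ h2
        rw [eq_top_iff]
        intro q _
        obtain ⟨x, rfl⟩ := QuotientGroup.mk'_surjective M q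
        have hx : x ∈ N'.comap (QuotientGroup.mk' M) := by rw [h3]; exact Subgroup.mem_top x
        exact hx
  have hcomm : ∀ a b : K ⧸ M, a * b = b * a :=
    IsSimpleGroup.comm_iff_isSolvable.mpr inferInstance
  have hle : commutator K ≤ M := by
    rw [← Subgroup.Normal.quotient_commutative_iff_commutator_le]
    exact ⟨⟨hcomm⟩⟩
  have : (⊤ : Subgroup K) ≤ M := by rw [← h]; exact sup_le hXM hle
  exact hM.1 (eq_top_iff.mpr this)

end generic

section generic2
variable {G : Type u} [Group G]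

/-- `g` normalising `X` and `Y` normalises `⁅X,Y⁆`. -/
theorem mem_normalizer_commutator {X Y : Subgroup G} {g : G}
    (hX : g ∈ normalizer (X : Set G)) (hY : g ∈ normalizer (Y : Set G)) :
    g ∈ normalizer ((⁅X, Y⁆ : Subgroup G) : Set G) := by
  have key : ∀ g : G, g ∈ normalizer (X : Set G) → g ∈ normalizer (Y : Set G) →
      ∀ n ∈ ⁅X, Y⁆, g * n * g⁻¹ ∈ ⁅X, Y⁆ := by
    intro g hX hY n hn
    induction hn using Subgroup.closure_induction with
    | mem z hz =>
      obtain ⟨x, hx, y, hy, rfl⟩ := hz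
      have h1 : g * ⁅x, y⁆ * g⁻¹ = ⁅g * x * g⁻¹, g * y * g⁻¹⁆ := by
        simp only [commutatorElement_def]; group
      rw [h1]
      exact Subgroup.commutator_mem_commutator
        ((Subgroup.mem_normalizer_iff.mp hX x).mp hx) ((Subgroup.mem_normalizer_iff.mp hY y).mp hy)
    | one => simp
    | mul y z _ _ hy hz =>
      have : g * (y * z) * g⁻¹ = (g * y * g⁻¹) * (g * z * g⁻¹) := by group
      rw [this]; exact mul_mem hy hz
    | inv y _ hy =>
      have : g * y⁻¹ * g⁻¹ = (g * y * g⁻¹)⁻¹ := by group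
      rw [this]; exact inv_mem hy
  rw [Subgroup.mem_normalizer_iff]
  intro n
  refine ⟨key g hX hY n, fun hn => ?_⟩
  have := key g⁻¹ (inv_mem hX) (inv_mem hY) _ hn
  simpa [mul_assoc] using this

/-- `g` normalising `X` and `Y` normalises `X ⊔ Y`. -/
theorem mem_normalizer_sup {X Y : Subgroup G} {g : G}
    (hX : g ∈ normalizer (X : Set G)) (hY : g ∈ normalizer (Y : Set G)) :
    g ∈ normalizer ((X ⊔ Y : Subgroup G) : Set G) := by
  rw [← Cfsg.Agent.Lib.Helper1.conj_smul_eq_self_iff_mem_normalizer] at hX hY ⊢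
  rw [Subgroup.smul_sup, hX, hY]

/-- a subgroup centralised by `K` is normalised by `K`. -/
theorem le_normalizer_of_le_centralizer {N K : Subgroup G}
    (h : N ≤ centralizer (K : Set G)) : K ≤ normalizer (N : Set G) := by
  apply Cfsg.Agent.Lib.Helper1.le_normalizer_of_forall_conj_mem
  intro x hx n hn
  have h1 : x * n = n * x := (Subgroup.mem_centralizer_iff.mp (h hn)) x hx
  have : x * n * x⁻¹ = n := by rw [h1]; group
  rw [this]; exact hn

theorem lcs_normalizer {H : Subgroup G} {g : G} (hg : g ∈ normalizer (H : Set G)) (n : ℕ) :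
    g ∈ normalizer ((H.lowerCentralSeries n : Subgroup G) : Set G) := by
  induction n with
  | zero => exact hg
  | succ n ih =>
    rw [Subgroup.lowerCentralSeries_succ]
    exact mem_normalizer_commutator ih hg

theorem lcs_le (H : Subgroup G) (n : ℕ) : H.lowerCentralSeries n ≤ H :=
  H.lowerCentralSeries_antitone (Nat.zero_le n)

end generic2

section frat
variable {G : Type u} [Group G]

/-- Frattini argument inside the nilpotent subgroup `H`: `A ≤ ⁅H,H⁆` and `A ⊔ X = H` force `X = H`. -/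
theorem frattini_arg [Finite G] {H X A : Subgroup G} (hnil : Group.IsNilpotent ↥H)
    (hX : X ≤ H) (hA : A ≤ ⁅H, H⁆) (h : A ⊔ X = H) : X = H := by
  have hcomm : (commutator ↥H).map H.subtype = ⁅H, H⁆ := by
    rw [commutator_def, Subgroup.map_commutator, ← MonoidHom.range_eq_map, Subgroup.range_subtype]
  have hXmap : (X.subgroupOf H).map H.subtype = X := Subgroup.map_subgroupOf_eq_of_le hX
  have htop : X.subgroupOf H ⊔ commutator ↥H = ⊤ := by
    rw [eq_top_iff]
    intro x _
    have hx : (x : G) ∈ (X.subgroupOf H ⊔ commutator ↥H).map H.subtype := by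
      rw [Subgroup.map_sup, hXmap, hcomm]
      have h1 : (x : G) ∈ A ⊔ X := by rw [h]; exact x.2
      exact (sup_le (le_sup_of_le_right hA) le_sup_left) h1
    obtain ⟨y, hy, hyx⟩ := hx
    have h2 : y = x := Subtype.ext hyx
    rwa [← h2]
  have h3 := eq_top_of_sup_commutator htop
  exact le_antisymm hX (Subgroup.subgroupOf_eq_top.mp h3)

end frat

end L16

variable {G : Type u} [Group G]

/-- Case "H nilpotent".  Let `c` be the class; `c ≤ 2` is `MC.class2_false`.  For `c ≥ 3` let
`A₁ := γ_{c-1}(H)` (second-to-last nontrivial term of the lower central series, mapped to `G`), so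
`1 ≠ ⁅A₁,H⁆ = γ_c(H) ≤ Z(H) ≤ C(P)` (`MC.center_le`) and `A₁ ≤ ⁅H,H⁆ ≤ Φ(H)`.  As
`H = ⁅H,P⁆ = ⨆_{b ∈ H} D P b`, some `b ∈ H` has `N := ⁅A₁, D P b⁆ ≠ ⊥`; `N` is central in `HP`.
If `A₁ ⊔ D P b = H` then `D P b = H` (Frattini: `frattini_nongenerating`; for nilpotent `H`,
`⁅H,H⁆ ≤ Φ(H)`), so `KK H P ≥ H ⊓ C(P)` and `Good H P`.  Otherwise `MC.sub` for
`H₀ := A₁ ⊔ D P b` gives `⁅H₀,P⁆ ⊓ C(P) ≤ KK`; `T := ⁅H₀,P⁆ ⊴ H₀` contains
`⁅D P b,P⁆ = D P b` (`D_comm_eq`), hence `⁅A₁, D P b⁆ = N`; so `N ≤ KK`, contradicting `MC.not_le`. -/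
theorem MC.nilpotent_false [Finite G] {p : ℕ} [Fact p.Prime] (hp2 : p ≠ 2) {H P : Subgroup G}
    (mc : MC p H P) (hnil : Group.IsNilpotent H) : False := by
  classical
  have hex : ∃ n, H.lowerCentralSeries n = ⊥ :=
    (Subgroup.isNilpotent_iff_lowerCentralSeries H).mp hnil
  obtain ⟨n, hn, hmin⟩ : ∃ n, H.lowerCentralSeries n = ⊥ ∧
      ∀ m < n, H.lowerCentralSeries m ≠ ⊥ :=
    ⟨Nat.find hex, Nat.find_spec hex, fun m hm => Nat.find_min hex hm⟩
  by_cases h2 : n ≤ 2
  · have h3 : H.lowerCentralSeries 2 = ⊥ :=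
      le_bot_iff.mp (hn ▸ H.lowerCentralSeries_antitone h2)
    have h4 : ⁅⁅H, H⁆, H⁆ = ⊥ := h3
    exact MC.class2_false hp2 mc (Subgroup.commutator_eq_bot_iff_le_centralizer.mp h4)
  · obtain ⟨k, rfl⟩ : ∃ k, n = k + 3 := ⟨n - 3, by omega⟩
    have hBH : ⁅H.lowerCentralSeries (k + 2), H⁆ = ⊥ := hn
    have hBA : H.lowerCentralSeries (k + 2) = ⁅H.lowerCentralSeries (k + 1), H⁆ := rfl
    have hBne : H.lowerCentralSeries (k + 2) ≠ ⊥ := hmin (k + 2) (by omega)
    have hA₁le : H.lowerCentralSeries (k + 1) ≤ ⁅H, H⁆ :=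
      H.lowerCentralSeries_antitone (show 1 ≤ k + 1 by omega)
    have hA₁H : H.lowerCentralSeries (k + 1) ≤ H := L16.lcs_le H _
    have hBle : H.lowerCentralSeries (k + 2) ≤ H := L16.lcs_le H _
    have hBcH : H.lowerCentralSeries (k + 2) ≤ centralizer (H : Set G) :=
      Subgroup.commutator_eq_bot_iff_le_centralizer.mp hBH
    have hBcP : H.lowerCentralSeries (k + 2) ≤ centralizer (P : Set G) :=
      fun x hx => MC.center_le mc ⟨hBle hx, hBcH hx⟩
    have hPA₁ : P ≤ normalizer ((H.lowerCentralSeries (k + 1) : Subgroup G) : Set G) :=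
      fun y hy => L16.lcs_normalizer (mc.act.norm hy) _
    have hHS : H ≤ ⨆ b : ↥H, D P (b : G) := by
      refine (MC.comm_eq mc).ge.trans ?_
      rw [Subgroup.commutator_le]
      intro h hh y hy
      have h1 : ⁅h, y⁆ ∈ D P h⁻¹ := by
        apply Subgroup.subset_closure
        refine ⟨y, hy, ?_⟩
        rw [commutatorElement_def]; group
      exact (le_iSup (fun b : ↥H => D P (b : G)) ⟨h⁻¹, inv_mem hh⟩) h1
    obtain ⟨b, hb, hN⟩ : ∃ b ∈ H, ⁅H.lowerCentralSeries (k + 1), D P b⁆ ≠ ⊥ := by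
      by_contra hcon
      push Not at hcon
      apply hBne
      rw [hBA, Subgroup.commutator_comm, Subgroup.commutator_eq_bot_iff_le_centralizer]
      refine hHS.trans (iSup_le fun b => ?_)
      have h1 := hcon b b.2
      rw [Subgroup.commutator_comm, Subgroup.commutator_eq_bot_iff_le_centralizer] at h1
      exact h1
    have hDH : D P b ≤ H := D_le mc.act.norm hb
    have hNB : ⁅H.lowerCentralSeries (k + 1), D P b⁆ ≤ H.lowerCentralSeries (k + 2) := by
      rw [hBA]; exact Subgroup.commutator_mono le_rfl hDH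
    have hNrm : Nrm H P ⁅H.lowerCentralSeries (k + 1), D P b⁆ :=
      ⟨hNB.trans hBle, L16.le_normalizer_of_le_centralizer (hNB.trans hBcH),
        L16.le_normalizer_of_le_centralizer (hNB.trans hBcP)⟩
    apply MC.not_le mc hNrm hN
    have hH₀H : H.lowerCentralSeries (k + 1) ⊔ D P b ≤ H := sup_le hA₁H hDH
    have hPH₀ : P ≤ normalizer ((H.lowerCentralSeries (k + 1) ⊔ D P b : Subgroup G) : Set G) :=
      fun y hy => L16.mem_normalizer_sup (hPA₁ hy) (D_normalizer P b hy)
    by_cases hcase : H.lowerCentralSeries (k + 1) ⊔ D P b = H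
    · have hDeq : D P b = H := L16.frattini_arg hnil hDH hA₁le hcase
      exfalso
      apply mc.bad
      show ⁅H, P⁆ ⊓ centralizer (P : Set G) ≤ KK H P
      have h1 : D P b ⊓ centralizer (P : Set G) ≤ KK H P := D_inf_le_KK hb
      rw [hDeq] at h1
      exact (inf_le_inf_right _ (MC.comm_eq mc).le).trans h1
    · have hsub := MC.sub mc hH₀H hcase hPH₀
      refine le_trans ?_ hsub
      refine le_inf (inf_le_left.trans ?_) inf_le_right
      have hDT : D P b ≤ ⁅H.lowerCentralSeries (k + 1) ⊔ D P b, P⁆ :=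
        (D_comm_eq mc.act hb).ge.trans (Subgroup.commutator_mono le_sup_right le_rfl)
      have hH₀T : H.lowerCentralSeries (k + 1) ⊔ D P b ≤
          normalizer ((⁅H.lowerCentralSeries (k + 1) ⊔ D P b, P⁆ : Subgroup G) : Set G) :=
        Cfsg.Agent.Lib.Helper1.le_normalizer_commutator_left
      have hA₁T : H.lowerCentralSeries (k + 1) ≤
          normalizer ((⁅H.lowerCentralSeries (k + 1) ⊔ D P b, P⁆ : Subgroup G) : Set G) :=
        le_sup_left.trans hH₀T
      calc ⁅H.lowerCentralSeries (k + 1), D P b⁆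
          ≤ ⁅H.lowerCentralSeries (k + 1), ⁅H.lowerCentralSeries (k + 1) ⊔ D P b, P⁆⁆ :=
            Subgroup.commutator_mono le_rfl hDT
        _ = ⁅⁅H.lowerCentralSeries (k + 1) ⊔ D P b, P⁆, H.lowerCentralSeries (k + 1)⁆ :=
            Subgroup.commutator_comm _ _
        _ ≤ ⁅H.lowerCentralSeries (k + 1) ⊔ D P b, P⁆ :=
            Cfsg.Agent.Lib.Helper1.commutator_le_of_le_normalizer hA₁T

end Cfsg.Agent.Lib.Helper24.FL
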