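import Mathlib
import Cfsg.Agent.Lib.Helper24.FL.Defs
import Cfsg.Agent.Lib.Helper24.FL.L08

set_option autoImplicit false

namespace Cfsg.Agent.Lib.Helper24.FL

open Subgroup

universe u

variable {G : Type u} [Group G]

/-- Existence of a minimal non-central normal subgroup of `HP` inside `H`: `H` itself is normal and
non-central (`H = ⁅H,P⁆ ≠ ⊥` since `¬ Good H P`), take one of least cardinality. -/
theorem MC.exists_minA [Finite G] {p : ℕ} [Fact p.Prime] {H P : Subgroup G} (mc : MC p H P) :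
    ∃ A : Subgroup G, MinA H P A := by
  classical
  -- the family of non-central normal subgroups of `HP` inside `H`
  set 𝒮 : Set (Subgroup G) := {A | Nrm H P A ∧ ¬ A ≤ Cen H P} with h𝒮
  have hH : H ∈ 𝒮 := by
    refine ⟨⟨le_refl H, Subgroup.le_normalizer, mc.act.norm⟩, ?_⟩
    intro hle
    apply mc.bad
    have hHP : H ≤ Subgroup.centralizer (P : Set G) := hle.trans inf_le_right
    have hbot : ⁅H, P⁆ = ⊥ := Subgroup.commutator_eq_bot_iff_le_centralizer.mpr hHP
    unfold Good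
    rw [hbot]
    simp
  have hne : 𝒮.Nonempty := ⟨H, hH⟩
  obtain ⟨A, hA𝒮, hmin⟩ :=
    WellFounded.has_min (measure (fun A : Subgroup G => Nat.card A)).wf 𝒮 hne
  refine ⟨A, hA𝒮.1, hA𝒮.2, ?_⟩
  intro B hB hBA hne'
  by_contra hnc
  have hB𝒮 : B ∈ 𝒮 := ⟨hB, hnc⟩
  have h1 := hmin B hB𝒮
  apply h1
  show Nat.card B < Nat.card A
  by_contra hlt
  exact hne' (Subgroup.eq_of_le_of_card_ge hBA (not_lt.mp hlt))

end Cfsg.Agent.Lib.Helper24.FL
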