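import Mathlib
import Cfsg.Agent.Lib.Helper24.FL.Defs
import Cfsg.Agent.Lib.Helper24.FL.L08

set_option autoImplicit false

namespace Cfsg.Agent.Lib.Helper24.FL

open Subgroup

universe u

variable {G : Type u} [Group G]

/-- `P` does not centralise `A`: otherwise every `h y h⁻¹` (`h ∈ H`, `y ∈ P`) centralises
`h A h⁻¹ = A`, so `⁅H,P⁆ = H` (`MC.comm_eq`; generators `⁅h,y⁆ = (h y h⁻¹) y⁻¹`) centralises `A` and
`A ≤ Cen H P`. -/
theorem MinA.not_le_centralizer [Finite G] {p : ℕ} [Fact p.Prime] {H P A : Subgroup G}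
    (mc : MC p H P) (hA : MinA H P A) : ¬ A ≤ Subgroup.centralizer (P : Set G) := by
  intro hAP
  apply hA.nc
  have hHA : H ≤ Subgroup.normalizer (A : Set G) := hA.nrm.2.1
  -- `⁅H,P⁆` centralises `A`
  have hcomm : ⁅H, P⁆ ≤ Subgroup.centralizer (A : Set G) := by
    rw [Subgroup.commutator_le]
    intro h hh y hy
    rw [Subgroup.mem_centralizer_iff]
    intro a ha
    -- `y` commutes with every element of `A`
    have hya : ∀ b ∈ A, y * b = b * y := by
      intro b hb
      have := (Subgroup.mem_centralizer_iff.mp (hAP hb)) y hy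
      exact this
    have hy' : ∀ b ∈ A, y⁻¹ * b = b * y⁻¹ := by
      intro b hb
      have := hya b hb
      calc y⁻¹ * b = y⁻¹ * (b * y) * y⁻¹ := by group
        _ = y⁻¹ * (y * b) * y⁻¹ := by rw [this]
        _ = b * y⁻¹ := by group
    -- `h⁻¹ a h ∈ A`
    have hconj : h⁻¹ * a * h ∈ A := by
      have := (Subgroup.mem_normalizer_iff.mp (hHA (inv_mem hh)) a).mp ha
      simpa using this
    have h1 := hya _ hconj
    have h2 := hy' a ha
    rw [commutatorElement_def]
    calc a * (h * y * h⁻¹ * y⁻¹) = h * ((h⁻¹ * a * h) * y) * h⁻¹ * y⁻¹ := by group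
      _ = h * (y * (h⁻¹ * a * h)) * h⁻¹ * y⁻¹ := by rw [h1]
      _ = h * y * h⁻¹ * (a * y⁻¹) := by group
      _ = h * y * h⁻¹ * (y⁻¹ * a) := by rw [h2]
      _ = h * y * h⁻¹ * y⁻¹ * a := by group
  rw [mc.comm_eq] at hcomm
  have hAH : A ≤ Subgroup.centralizer (H : Set G) := Subgroup.le_centralizer_iff.mp hcomm
  exact le_inf hAH hAP

end Cfsg.Agent.Lib.Helper24.FL
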