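import Mathlib
import Cfsg.Agent.Lib.Helper24.FL.Defs

set_option autoImplicit false

namespace Cfsg.Agent.Lib.Helper24.FL

open Subgroup

universe u

variable {G : Type u} [Group G]

namespace L19

/-- a subgroup normalising `A` normalises `⁅A, A⁆` -/
theorem le_normalizer_comm_self {K A : Subgroup G} (hK : K ≤ Subgroup.normalizer (A : Set G)) :
    K ≤ Subgroup.normalizer ((⁅A, A⁆ : Subgroup G) : Set G) := by
  intro g hg
  have hgA : A.map (MulAut.conj g).toMonoidHom = A :=
    Subgroup.mem_normalizer_iff_map_conj_eq.mp (hK hg)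
  apply Subgroup.mem_normalizer_iff_map_conj_eq.mpr
  have h := Subgroup.map_commutator A A (MulAut.conj g).toMonoidHom
  rw [hgA] at h
  exact h

/-- a nontrivial solvable subgroup is not perfect -/
theorem comm_ne_self_of_solvable {H A : Subgroup G} (hH : Group.IsSolvable H) (hAH : A ≤ H)
    (hA : A ≠ ⊥) : ⁅A, A⁆ ≠ A := by
  intro heq
  have hsolvA : Group.IsSolvable A := by
    haveI := hH
    exact solvable_of_solvable_injective (Subgroup.inclusion_injective hAH)
  obtain ⟨n, hn⟩ := hsolvA.solvable
  have hmap : ∀ k : ℕ, (derivedSeries A k).map A.subtype = A := by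
    intro k
    induction k with
    | zero => rw [derivedSeries_zero, ← MonoidHom.range_eq_map, Subgroup.range_subtype]
    | succ k ih =>
      rw [derivedSeries_succ, Subgroup.map_commutator, ih]
      exact heq
  have h1 := hmap n
  rw [hn, Subgroup.map_bot] at h1
  exact hA h1.symm

end L19

/-- `⁅A,A⁆` is normal in `HP` and proper in `A` (`A ≤ H` solvable, `A ≠ ⊥`), hence central. -/
theorem MinA.comm_le_cen [Finite G] {p : ℕ} [Fact p.Prime] {H P A : Subgroup G}
    (mc : MC p H P) (hA : MinA H P A) : ⁅A, A⁆ ≤ Cen H P := by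
  have hAne : A ≠ ⊥ := by
    intro h
    apply hA.nc
    rw [h]
    exact bot_le
  have hle : ⁅A, A⁆ ≤ A := by
    rw [Subgroup.commutator_le]
    intro x hx y hy
    exact A.mul_mem (A.mul_mem (A.mul_mem hx hy) (A.inv_mem hx)) (A.inv_mem hy)
  apply hA.min
  · refine ⟨hle.trans hA.nrm.1, L19.le_normalizer_comm_self hA.nrm.2.1,
      L19.le_normalizer_comm_self hA.nrm.2.2⟩
  · exact hle
  · exact L19.comm_ne_self_of_solvable mc.act.solv hA.nrm.1 hAne

end Cfsg.Agent.Lib.Helper24.FL
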