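import Mathlib
import Cfsg.Agent.Lib.Helper24.FL.Defs

set_option autoImplicit false

namespace Cfsg.Agent.Lib.Helper24.FL

open Subgroup

universe u

variable {G : Type u} [Group G]

namespace L20

/-- a subgroup normalising `A` normalises `Z(A) = A ⊓ C(A)` -/
theorem le_normalizer_center {K A : Subgroup G} (hK : K ≤ Subgroup.normalizer (A : Set G)) :
    K ≤ Subgroup.normalizer ((A ⊓ Subgroup.centralizer (A : Set G) : Subgroup G) : Set G) := by
  apply Cfsg.Agent.Lib.Helper1.le_normalizer_of_forall_conj_mem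
  intro g hg x hx
  have hgN := hK hg
  have hginvN := hK (K.inv_mem hg)
  refine Subgroup.mem_inf.mpr ⟨(Subgroup.mem_normalizer_iff.mp hgN x).mp hx.1, ?_⟩
  rw [Subgroup.mem_centralizer_iff]
  intro a ha
  have ha' : g⁻¹ * a * g⁻¹⁻¹ ∈ A := (Subgroup.mem_normalizer_iff.mp hginvN a).mp ha
  rw [inv_inv] at ha'
  have hc : (g⁻¹ * a * g) * x = x * (g⁻¹ * a * g) :=
    (Subgroup.mem_centralizer_iff.mp hx.2) _ ha'
  calc a * (g * x * g⁻¹) = g * ((g⁻¹ * a * g) * x) * g⁻¹ := by group
    _ = g * (x * (g⁻¹ * a * g)) * g⁻¹ := by rw [hc]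
    _ = g * x * g⁻¹ * a := by group

end L20

/-- `Z(A) = A ⊓ C(A)` is normal in `HP` and proper in the nonabelian `A`, hence central. -/
theorem MinA.center_le_cen [Finite G] {p : ℕ} [Fact p.Prime] {H P A : Subgroup G}
    (mc : MC p H P) (hA : MinA H P A) (hna : ¬ A ≤ Subgroup.centralizer (A : Set G)) :
    A ⊓ Subgroup.centralizer (A : Set G) ≤ Cen H P := by
  apply hA.min
  · exact ⟨inf_le_left.trans hA.nrm.1, L20.le_normalizer_center hA.nrm.2.1,
      L20.le_normalizer_center hA.nrm.2.2⟩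
  · exact inf_le_left
  · intro heq
    apply hna
    intro x hx
    have hx' : x ∈ A ⊓ Subgroup.centralizer (A : Set G) := by rw [heq]; exact hx
    exact (Subgroup.mem_inf.mp hx').2

end Cfsg.Agent.Lib.Helper24.FL
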