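import Mathlib
import Cfsg.Agent.Lib.Helper24.FL.Defs
import Cfsg.Agent.Lib.Helper24.FL.L09
import Cfsg.Agent.Lib.Helper24.FL.L11
import Cfsg.Agent.Lib.Helper24.FL.L15
import Cfsg.Agent.Lib.Helper24.FL.L16
import Cfsg.Agent.Lib.Helper24.FL.L18
import Cfsg.Agent.Lib.Helper24.FL.L19
import Cfsg.Agent.Lib.Helper24.FL.L20

set_option autoImplicit false

namespace Cfsg.Agent.Lib.Helper24.FL

open Subgroup

universe u

variable {G : Type u} [Group G]

namespace L21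

/-- In a group where `z = ⁅c,a⁆` commutes with `a`, `y a y⁻¹` and `y`, and `c` commutes with `y`, the
element `c` commutes with `⁅a,y⁆`. -/
theorem comm_aux {c a y z : G} (hz : z = c * a * c⁻¹ * a⁻¹) (hcy : y * c = c * y)
    (hzy : y * z = z * y) (hza : z * a = a * z)
    (hzya : z * (y * a * y⁻¹) = (y * a * y⁻¹) * z) :
    c * (a * y * a⁻¹ * y⁻¹) = (a * y * a⁻¹ * y⁻¹) * c := by
  have E1 : c * a * c⁻¹ = z * a := by rw [hz]; group
  have hcy' : y * c * y⁻¹ = c := by rw [hcy]; group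
  have hzy' : y * z * y⁻¹ = z := by rw [hzy]; group
  have E2 : c * (y * a * y⁻¹) * c⁻¹ = z * (y * a * y⁻¹) := by
    calc c * (y * a * y⁻¹) * c⁻¹
        = (y * c * y⁻¹) * (y * a * y⁻¹) * (y * c * y⁻¹)⁻¹ := by rw [hcy']
      _ = y * (c * a * c⁻¹) * y⁻¹ := by group
      _ = y * (z * a) * y⁻¹ := by rw [E1]
      _ = (y * z * y⁻¹) * (y * a * y⁻¹) := by group
      _ = z * (y * a * y⁻¹) := by rw [hzy']
  have E3 : c * (a * (y * a * y⁻¹)⁻¹) * c⁻¹ = a * (y * a * y⁻¹)⁻¹ := by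
    calc c * (a * (y * a * y⁻¹)⁻¹) * c⁻¹
        = (c * a * c⁻¹) * (c * (y * a * y⁻¹) * c⁻¹)⁻¹ := by group
      _ = (z * a) * (z * (y * a * y⁻¹))⁻¹ := by rw [E1, E2]
      _ = (a * z) * ((y * a * y⁻¹) * z)⁻¹ := by rw [hza, hzya]
      _ = a * (y * a * y⁻¹)⁻¹ := by group
  have E4 : a * y * a⁻¹ * y⁻¹ = a * (y * a * y⁻¹)⁻¹ := by group
  rw [E4]
  calc c * (a * (y * a * y⁻¹)⁻¹) = (c * (a * (y * a * y⁻¹)⁻¹) * c⁻¹) * c := by group
    _ = a * (y * a * y⁻¹)⁻¹ * c := by rw [E3]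

end L21

/-- Case II: `A` nonabelian.  `A` has class 2 with `⁅A,A⁆ ≤ Cen H P` (`MinA.comm_le_cen`).  Put
`B := ⁅A,P⁆`.  Claim `B` is nonabelian: for `c ∈ A ⊓ C(P)`, `a ∈ A`, `y ∈ P`, bilinearity and
`P`-invariance of commutators give `⁅c, ⁅a,y⁆⁆ = 1`, so `A ⊓ C(P)` centralises `B`; as
`A = B · (A ⊓ C(P))` (`CoprimeAct.commutator_sup_centralizer`), `B` abelian would give
`B ≤ Z(A) ≤ Cen H P ≤ C(P)` (`MinA.center_le_cen`), so `B = ⁅B,P⁆ = ⊥`
(`CoprimeAct.commutator_commutator_eq`), i.e. `A ≤ C(P)`, contradicting `MinA.not_le_centralizer`.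
So `N := ⁅B,B⁆ ≠ ⊥`, `N ≤ ⁅A,A⁆ ≤ Cen H P` is normal in `HP`, and `N ≤ B ⊓ C(P)`.
If `A ≠ H`: `MC.sub` (`H₀ := A`) gives `B ⊓ C(P) ≤ KK`, contradicting `MC.not_le` for `N`.
If `A = H`: `H` is nilpotent (class ≤ 2), contradiction by `MC.nilpotent_false`
(or directly `MC.class2_false`). -/
theorem MinA.caseII [Finite G] {p : ℕ} [Fact p.Prime] (hp2 : p ≠ 2) {H P A : Subgroup G}
    (mc : MC p H P) (hA : MinA H P A) (hna : ¬ A ≤ Subgroup.centralizer (A : Set G)) : False := by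
  have hAH : A ≤ H := hA.nrm.1
  have hPA : P ≤ Subgroup.normalizer (A : Set G) := hA.nrm.2.2
  have hcomm : ⁅A, A⁆ ≤ Cen H P := MinA.comm_le_cen mc hA
  have hcommH : ⁅A, A⁆ ≤ Subgroup.centralizer (H : Set G) := hcomm.trans inf_le_left
  have hcommP : ⁅A, A⁆ ≤ Subgroup.centralizer (P : Set G) := hcomm.trans inf_le_right
  have hcop : Cfsg.Agent.Lib.Helper1.CoprimeAct P A := mc.act.coprimeAct.mono hAH hPA
  have hBA : ⁅A, P⁆ ≤ A := Cfsg.Agent.Lib.Helper1.commutator_le_of_le_normalizer hPA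
  have hsup : ⁅A, P⁆ ⊔ (A ⊓ Subgroup.centralizer (P : Set G)) = A :=
    hcop.commutator_sup_centralizer
  have hBB : ⁅⁅A, P⁆, P⁆ = ⁅A, P⁆ := hcop.commutator_commutator_eq
  -- `A ⊓ C(P)` centralises `B = ⁅A,P⁆`
  have hcen : A ⊓ Subgroup.centralizer (P : Set G)
      ≤ Subgroup.centralizer ((⁅A, P⁆ : Subgroup G) : Set G) := by
    rw [Subgroup.le_centralizer_iff, Subgroup.commutator_le]
    intro a ha y hy
    rw [Subgroup.mem_centralizer_iff]
    intro c hc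
    have hc' := Subgroup.mem_inf.1 (SetLike.mem_coe.1 hc)
    have hzmem : c * a * c⁻¹ * a⁻¹ ∈ ⁅A, A⁆ := by
      have := Subgroup.commutator_mem_commutator hc'.1 ha
      rwa [commutatorElement_def] at this
    have hzH := Subgroup.mem_centralizer_iff.1 (hcommH hzmem)
    have hzP := Subgroup.mem_centralizer_iff.1 (hcommP hzmem)
    have hcP := Subgroup.mem_centralizer_iff.1 hc'.2
    have ha' : y * a * y⁻¹ ∈ A := (Subgroup.mem_normalizer_iff.1 (hPA hy) a).1 ha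
    rw [commutatorElement_def]
    exact L21.comm_aux rfl (hcP y hy) (hzP y hy) (hzH a (hAH ha)).symm
      (hzH _ (hAH ha')).symm
  -- `B` is nonabelian
  have hBna : ¬ ⁅A, P⁆ ≤ Subgroup.centralizer ((⁅A, P⁆ : Subgroup G) : Set G) := by
    intro hab
    have h1 : A ≤ Subgroup.centralizer ((⁅A, P⁆ : Subgroup G) : Set G) := by
      conv_lhs => rw [← hsup]
      exact sup_le hab hcen
    have h2 : ⁅A, P⁆ ≤ Subgroup.centralizer (A : Set G) := Subgroup.le_centralizer_iff.1 h1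
    have h3 : ⁅A, P⁆ ≤ Cen H P := (le_inf hBA h2).trans (MinA.center_le_cen mc hA hna)
    have h4 : ⁅A, P⁆ ≤ Subgroup.centralizer (P : Set G) := h3.trans inf_le_right
    have h5 : ⁅⁅A, P⁆, P⁆ = ⊥ := Subgroup.commutator_eq_bot_iff_le_centralizer.2 h4
    rw [hBB] at h5
    exact MinA.not_le_centralizer mc hA (Subgroup.commutator_eq_bot_iff_le_centralizer.1 h5)
  have hN1 : ⁅⁅A, P⁆, ⁅A, P⁆⁆ ≠ ⊥ := by
    intro h0
    exact hBna (Subgroup.commutator_eq_bot_iff_le_centralizer.1 h0)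
  have hNAA : ⁅⁅A, P⁆, ⁅A, P⁆⁆ ≤ ⁅A, A⁆ := Subgroup.commutator_mono hBA hBA
  have hNB : ⁅⁅A, P⁆, ⁅A, P⁆⁆ ≤ ⁅A, P⁆ :=
    Cfsg.Agent.Lib.Helper1.commutator_le_of_le_normalizer Subgroup.le_normalizer
  have hAAA : ⁅A, A⁆ ≤ A :=
    Cfsg.Agent.Lib.Helper1.commutator_le_of_le_normalizer Subgroup.le_normalizer
  have hNrm : Nrm H P ⁅⁅A, P⁆, ⁅A, P⁆⁆ := by
    refine ⟨hNAA.trans (hAAA.trans hAH), ?_, ?_⟩
    · exact (Subgroup.le_centralizer_iff.1 (hNAA.trans hcommH)).trans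
        (Subgroup.centralizer_le_normalizer _)
    · exact (Subgroup.le_centralizer_iff.1 (hNAA.trans hcommP)).trans
        (Subgroup.centralizer_le_normalizer _)
  by_cases hAeq : A = H
  · -- `H` has class two
    apply MC.class2_false hp2 mc
    rw [← hAeq]
    have := hcommH
    rw [← hAeq] at this
    exact this
  · have hsub := MC.sub mc hAH hAeq hPA
    apply MC.not_le mc hNrm hN1
    exact (inf_le_inf_right _ hNB).trans hsub

end Cfsg.Agent.Lib.Helper24.FL
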