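import Mathlib
import Cfsg.Agent.Lib.Helper24.FL.Defs

set_option autoImplicit false

namespace Cfsg.Agent.Lib.Helper24.FL

open Subgroup

universe u

variable {G : Type u} [Group G]

namespace L22

/-- the `j`-torsion of an abelian subgroup `A` -/
def tor (A : Subgroup G) (hab : A ≤ Subgroup.centralizer (A : Set G)) (j : ℕ) : Subgroup G where
  carrier := {a | a ∈ A ∧ a ^ j = 1}
  one_mem' := ⟨A.one_mem, one_pow j⟩
  mul_mem' := by
    rintro a b ⟨ha, ha'⟩ ⟨hb, hb'⟩
    refine ⟨A.mul_mem ha hb, ?_⟩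
    have hc : Commute a b := by
      have := (Subgroup.mem_centralizer_iff.mp (hab hb)) a ha
      exact this
    rw [hc.mul_pow, ha', hb', one_mul]
  inv_mem' := by
    rintro a ⟨ha, ha'⟩
    exact ⟨A.inv_mem ha, by rw [inv_pow, ha', inv_one]⟩

theorem mem_tor {A : Subgroup G} {hab : A ≤ Subgroup.centralizer (A : Set G)} {j : ℕ} {a : G} :
    a ∈ tor A hab j ↔ a ∈ A ∧ a ^ j = 1 := Iff.rfl

theorem tor_le (A : Subgroup G) (hab : A ≤ Subgroup.centralizer (A : Set G)) (j : ℕ) :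
    tor A hab j ≤ A := fun _ h => h.1

theorem normalizer_le (A : Subgroup G) (hab : A ≤ Subgroup.centralizer (A : Set G)) (j : ℕ) :
    Subgroup.normalizer (A : Set G) ≤ Subgroup.normalizer (tor A hab j : Set G) := by
  intro g hg
  rw [Subgroup.mem_normalizer_iff] at hg ⊢
  intro x
  rw [mem_tor, mem_tor, ← hg x, conj_pow]
  constructor
  · rintro ⟨h1, h2⟩
    exact ⟨h1, by rw [h2, mul_one, mul_inv_cancel]⟩
  · rintro ⟨h1, h2⟩
    refine ⟨h1, ?_⟩
    have : x ^ j = g⁻¹ * (g * x ^ j * g⁻¹) * g := by group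
    rw [this, h2, mul_one, inv_mul_cancel]

theorem nrm_tor {H P A : Subgroup G} (hA : Nrm H P A)
    (hab : A ≤ Subgroup.centralizer (A : Set G)) (j : ℕ) : Nrm H P (tor A hab j) :=
  ⟨(tor_le A hab j).trans hA.1, hA.2.1.trans (normalizer_le A hab j),
    hA.2.2.trans (normalizer_le A hab j)⟩

end L22

/-- An abelian minimal `A` has prime power order: for a prime `r ∣ |A|` the `r`-primary part `A_r`
and the `r'`-part `A_{r'}` are characteristic in `A`, hence normal in `HP`; if `A_r ≠ A` both are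
proper, hence central in `HP`, and so is `A = A_r A_{r'}`, contradiction. -/
theorem MinA.isPGroup [Finite G] {p : ℕ} [Fact p.Prime] {H P A : Subgroup G}
    (mc : MC p H P) (hA : MinA H P A) (hab : A ≤ Subgroup.centralizer (A : Set G)) :
    ∃ r : ℕ, r.Prime ∧ IsPGroup r A := by
  have _ := mc
  -- `A ≠ ⊥`
  have hAne : A ≠ ⊥ := by
    intro h
    apply hA.nc
    rw [h]
    exact bot_le
  have hcard1 : Nat.card A ≠ 1 := by
    intro h
    exact hAne ((Subgroup.card_eq_one).mp h)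
  obtain ⟨r, hr, hrdvd⟩ := Nat.exists_prime_and_dvd hcard1
  have hn0 : Nat.card A ≠ 0 := Nat.card_pos.ne'
  obtain ⟨k, m, hm, hn⟩ := Nat.exists_eq_pow_mul_and_not_dvd hn0 r hr.ne_one
  refine ⟨r, hr, ?_⟩
  by_cases hB1 : L22.tor A hab (r ^ k) = A
  · -- `A` is an `r`-group
    intro a
    refine ⟨k, ?_⟩
    have ha : (a : G) ∈ L22.tor A hab (r ^ k) := by rw [hB1]; exact a.2
    apply Subtype.ext
    rw [Subgroup.coe_pow]
    exact ha.2
  · exfalso
    have hc1 : L22.tor A hab (r ^ k) ≤ Cen H P :=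
      hA.min _ (L22.nrm_tor hA.nrm hab _) (L22.tor_le A hab _) hB1
    have hB2 : L22.tor A hab m ≠ A := by
      intro h
      have : Fact r.Prime := ⟨hr⟩
      obtain ⟨x, hx⟩ := exists_prime_orderOf_dvd_card' (G := ↥A) r hrdvd
      have hxm : (x : G) ∈ L22.tor A hab m := by rw [h]; exact x.2
      have h1 : (x : G) ^ m = 1 := hxm.2
      have h2 : x ^ m = 1 := by
        apply Subtype.ext
        rw [Subgroup.coe_pow]
        exact h1
      have := orderOf_dvd_of_pow_eq_one h2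
      rw [hx] at this
      exact hm this
    have hc2 : L22.tor A hab m ≤ Cen H P :=
      hA.min _ (L22.nrm_tor hA.nrm hab _) (L22.tor_le A hab _) hB2
    apply hA.nc
    intro a ha
    -- `a ^ n = 1`
    have han : a ^ (r ^ k * m) = 1 := by
      have h := pow_card_eq_one' (G := ↥A) (x := ⟨a, ha⟩)
      rw [hn] at h
      have := congrArg (fun z : ↥A => (z : G)) h
      simpa using this
    have hcop : Nat.Coprime (r ^ k) m := by
      apply Nat.Coprime.pow_left
      exact (Nat.Prime.coprime_iff_not_dvd hr).mpr hm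
    -- Bezout
    have hbez : ((r ^ k : ℕ) : ℤ) * Nat.gcdA (r ^ k) m + (m : ℤ) * Nat.gcdB (r ^ k) m = 1 := by
      have := Nat.gcd_eq_gcd_ab (r ^ k) m
      rw [hcop.gcd_eq_one] at this
      exact_mod_cast this.symm
    set α := Nat.gcdA (r ^ k) m
    set β := Nat.gcdB (r ^ k) m
    have hsplit : a = a ^ (((r ^ k : ℕ) : ℤ) * α) * a ^ ((m : ℤ) * β) := by
      rw [← zpow_add, hbez, zpow_one]
    have hb1 : a ^ (((r ^ k : ℕ) : ℤ) * α) ∈ L22.tor A hab m := by
      refine ⟨A.zpow_mem ha _, ?_⟩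
      rw [← zpow_natCast, ← zpow_mul]
      have : ((r ^ k : ℕ) : ℤ) * α * (m : ℤ) = ((r ^ k * m : ℕ) : ℤ) * α := by
        push_cast; ring
      rw [this, zpow_mul, zpow_natCast, han, one_zpow]
    have hb2 : a ^ ((m : ℤ) * β) ∈ L22.tor A hab (r ^ k) := by
      refine ⟨A.zpow_mem ha _, ?_⟩
      rw [← zpow_natCast, ← zpow_mul]
      have : (m : ℤ) * β * ((r ^ k : ℕ) : ℤ) = ((r ^ k * m : ℕ) : ℤ) * β := by
        push_cast; ring
      rw [this, zpow_mul, zpow_natCast, han, one_zpow]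
    rw [hsplit]
    exact (Cen H P).mul_mem (hc2 hb1) (hc1 hb2)

end Cfsg.Agent.Lib.Helper24.FL
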