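import Mathlib
import Cfsg.Agent.Lib.Helper24.FL.Defs
import Cfsg.Agent.Lib.Helper24.FL.L18

set_option autoImplicit false

namespace Cfsg.Agent.Lib.Helper24.FL

open Subgroup

universe u

variable {G : Type u} [Group G]

/-- `⁅A, HP⁆ = A`: it is normal in `HP` and contained in `A`; if proper it is central, so
`⁅A,P⁆ ≤ C(P)`, `⁅A,P⁆ = ⁅⁅A,P⁆,P⁆ = ⊥` (`CoprimeAct.commutator_commutator_eq` for `P` on `A`),
i.e. `A ≤ C(P)`, contradicting `MinA.not_le_centralizer`. -/
theorem MinA.comm_top [Finite G] {p : ℕ} [Fact p.Prime] {H P A : Subgroup G}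
    (mc : MC p H P) (hA : MinA H P A) : ⁅A, H ⊔ P⁆ = A := by
  open Cfsg.Agent.Lib.Helper1 in
  by_contra hne
  have hAH : A ≤ H := hA.nrm.1
  have hHA : H ≤ Subgroup.normalizer (A : Set G) := hA.nrm.2.1
  have hPA : P ≤ Subgroup.normalizer (A : Set G) := hA.nrm.2.2
  have hHPA : H ⊔ P ≤ Subgroup.normalizer (A : Set G) := sup_le hHA hPA
  have hle : ⁅A, H ⊔ P⁆ ≤ A := commutator_le_of_le_normalizer hHPA
  have hnrm : Nrm H P ⁅A, H ⊔ P⁆ := by
    refine ⟨hle.trans hAH, ?_, ?_⟩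
    · exact le_sup_left.trans (le_normalizer_commutator_right (K := A) (A := H ⊔ P))
    · exact le_sup_right.trans (le_normalizer_commutator_right (K := A) (A := H ⊔ P))
  have hcen : ⁅A, H ⊔ P⁆ ≤ Cen H P := hA.min _ hnrm hle hne
  have hAP : ⁅A, P⁆ ≤ Subgroup.centralizer (P : Set G) :=
    (Subgroup.commutator_mono (le_refl A) le_sup_right).trans (hcen.trans inf_le_right)
  have hbot : ⁅⁅A, P⁆, P⁆ = ⊥ := Subgroup.commutator_eq_bot_iff_le_centralizer.mpr hAP
  have hca : CoprimeAct P A := mc.act.coprimeAct.mono hAH hPA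
  have h2 : ⁅A, P⁆ = ⊥ := by rw [← hca.commutator_commutator_eq, hbot]
  exact MinA.not_le_centralizer mc hA (Subgroup.commutator_eq_bot_iff_le_centralizer.mp h2)

end Cfsg.Agent.Lib.Helper24.FL
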