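import Mathlib
import Cfsg.Agent.Lib.Helper24.FL.Defs
import Cfsg.Agent.Lib.Helper1.CoprimeSylow

set_option autoImplicit false

namespace Cfsg.Agent.Lib.Helper24.FL

open Subgroup

universe u

variable {G : Type u} [Group G]

namespace L24

open Cfsg.Agent.Lib.Helper1
open scoped commutatorElement

/-- commutators of generators that normalise `N` and commute with `P` modulo `N` -/
theorem comm_closure_le {N P : Subgroup G} {s : Set G}
    (hsN : ∀ x ∈ s, x ∈ normalizer (N : Set G)) (hs : ∀ x ∈ s, ∀ y ∈ P, ⁅x, y⁆ ∈ N) :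
    ⁅closure s, P⁆ ≤ N := by
  rw [Subgroup.commutator_le]
  intro g hg
  have key : g ∈ normalizer (N : Set G) ∧ ∀ y ∈ P, ⁅g, y⁆ ∈ N := by
    induction hg using Subgroup.closure_induction with
    | mem x hx => exact ⟨hsN x hx, hs x hx⟩
    | one =>
      exact ⟨one_mem _, fun y _ => by rw [commutatorElement_one_left]; exact one_mem _⟩
    | mul h k _ _ ih1 ih2 =>
      refine ⟨mul_mem ih1.1 ih2.1, fun y hy => ?_⟩
      have : ⁅h * k, y⁆ = h * ⁅k, y⁆ * h⁻¹ * ⁅h, y⁆ := by
        simp only [commutatorElement_def]; group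
      rw [this]
      exact mul_mem ((Subgroup.mem_normalizer_iff.mp ih1.1 _).mp (ih2.2 y hy)) (ih1.2 y hy)
    | inv h _ ih =>
      refine ⟨inv_mem ih.1, fun y hy => ?_⟩
      have : ⁅h⁻¹, y⁆ = h⁻¹ * (⁅h, y⁆)⁻¹ * (h⁻¹)⁻¹ := by
        simp only [commutatorElement_def]; group
      rw [this]
      exact (Subgroup.mem_normalizer_iff.mp (inv_mem ih.1) _).mp (inv_mem (ih.2 y hy))
  exact key.2

/-- conjugation-closure of a supremum from conjugation of the members -/
theorem conj_mem_iSup {ι : Sort*} (T : ι → Subgroup G) (c : G)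
    (h : ∀ i, ∀ n ∈ T i, c * n * c⁻¹ ∈ ⨆ j, T j) :
    ∀ n ∈ ⨆ j, T j, c * n * c⁻¹ ∈ ⨆ j, T j := by
  intro n hn
  refine Subgroup.iSup_induction T (C := fun n => c * n * c⁻¹ ∈ ⨆ j, T j) hn h ?_ ?_
  · simp
  · intro a b ha hb
    have : c * (a * b) * c⁻¹ = (c * a * c⁻¹) * (c * b * c⁻¹) := by group
    rw [this]
    exact mul_mem ha hb

/-- a conjugate of a `P`-invariant Sylow subgroup by an element of `C_H(P)` is one -/
theorem conj_mem_sylInv [Finite G] {H P : Subgroup G} {c : G} (hcH : c ∈ H)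
    (hcP : c ∈ centralizer (P : Set G)) {S : Subgroup G} (hS : S ∈ SylInv H P) :
    S.map (MulAut.conj c).toMonoidHom ∈ SylInv H P := by
  obtain ⟨hSH, hPS, s, hs, hsS, hsi⟩ := hS
  have hPc : P.map (MulAut.conj c).toMonoidHom = P := by
    ext x
    constructor
    · rintro ⟨y, hy, rfl⟩
      have h1 : (MulAut.conj c).toMonoidHom y = y := by
        show c * y * c⁻¹ = y
        rw [← (Subgroup.mem_centralizer_iff.mp hcP) y hy]
        group
      rw [h1]; exact hy
    · intro hx
      refine ⟨x, hx, ?_⟩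
      show c * x * c⁻¹ = x
      rw [← (Subgroup.mem_centralizer_iff.mp hcP) x hx]
      group
  have hHc : H.map (MulAut.conj c).toMonoidHom = H := by
    ext x
    constructor
    · rintro ⟨y, hy, rfl⟩
      exact mul_mem (mul_mem hcH hy) (inv_mem hcH)
    · intro hx
      refine ⟨c⁻¹ * x * c, mul_mem (mul_mem (inv_mem hcH) hx) hcH, ?_⟩
      show c * (c⁻¹ * x * c) * c⁻¹ = x
      group
  refine ⟨?_, ?_, s, hs, ?_, ?_⟩
  · rw [← hHc]
    exact Subgroup.map_mono hSH
  · rw [← Subgroup.map_equiv_normalizer_eq]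
    calc P = P.map (MulAut.conj c).toMonoidHom := hPc.symm
      _ ≤ _ := Subgroup.map_mono hPS
  · exact hsS.map _
  · have := Subgroup.relIndex_map_map_of_injective S H
      (f := (MulAut.conj c).toMonoidHom) (MulAut.conj c).injective
    rw [hHc] at this
    rw [this]
    exact hsi

end L24

open Cfsg.Agent.Lib.Helper1 in
open scoped commutatorElement in
/-- `H = ⁅H,P⁆` is generated by the `⁅S,P⁆`, `S` a `P`-invariant Sylow subgroup of `H`.
(1) For each prime `s` there is a `P`-invariant Sylow `s`-subgroup of `H` (`P` is a `p`-group acting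
on `Sylow s H`, whose cardinality divides `|H|`, prime to `p`; or Helper1's `glauberman_exists`).
(2) `H` is generated by one Sylow subgroup for each prime.  (3) Let `H₂ := ⨆ S, ⁅S,P⁆` and
`C := H ⊓ C(P)`.  `C` and `P` normalise `H₂` (`c S c⁻¹` is again `P`-invariant Sylow,
`⁅c S c⁻¹, P⁆ = c ⁅S,P⁆ c⁻¹`); `S = ⁅S,P⁆ (S ⊓ C(P))` (`CoprimeAct.commutator_sup_centralizer`), so
`H = H₂ C`, `H₂ ⊴ H`, and `P` acts trivially on `H / H₂`, so `H = ⁅H,P⁆ ≤ H₂`. -/
theorem gen_sylow_comm [Finite G] {p : ℕ} [Fact p.Prime] {H P : Subgroup G} (hA : Act p H P)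
    (hHP : ⁅H, P⁆ = H) : ⨆ S : SylInv H P, ⁅(S : Subgroup G), P⁆ = H := by
  set H₂ : Subgroup G := ⨆ S : SylInv H P, ⁅(S : Subgroup G), P⁆ with hH₂
  set C : Subgroup G := H ⊓ centralizer (P : Set G) with hC
  have hle : H₂ ≤ H := iSup_le fun S => by
    calc ⁅(S : Subgroup G), P⁆ ≤ ⁅H, P⁆ := Subgroup.commutator_mono S.2.1 le_rfl
      _ = H := hHP
  -- `P` normalises `H₂`
  have hPH₂ : P ≤ normalizer (H₂ : Set G) := by
    apply le_normalizer_of_forall_conj_mem
    intro y hy
    apply L24.conj_mem_iSup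
    intro S n hn
    have h1 : y * n * y⁻¹ ∈ ⁅(S : Subgroup G), P⁆ :=
      (Subgroup.mem_normalizer_iff.mp
        ((le_normalizer_commutator_right (K := (S : Subgroup G)) (A := P)) hy) n).mp hn
    exact (le_iSup (fun S : SylInv H P => ⁅(S : Subgroup G), P⁆) S) h1
  -- `C` normalises `H₂`
  have hCH₂ : C ≤ normalizer (H₂ : Set G) := by
    apply le_normalizer_of_forall_conj_mem
    intro c hc
    obtain ⟨hcH, hcP⟩ := Subgroup.mem_inf.mp hc
    apply L24.conj_mem_iSup
    intro S n hn
    have hS' := L24.conj_mem_sylInv hcH hcP S.2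
    have hPc : P.map (MulAut.conj c).toMonoidHom = P := by
      ext x
      constructor
      · rintro ⟨y, hy, rfl⟩
        have h1 : (MulAut.conj c).toMonoidHom y = y := by
          show c * y * c⁻¹ = y
          rw [← (Subgroup.mem_centralizer_iff.mp hcP) y hy]
          group
        rw [h1]; exact hy
      · intro hx
        refine ⟨x, hx, ?_⟩
        show c * x * c⁻¹ = x
        rw [← (Subgroup.mem_centralizer_iff.mp hcP) x hx]
        group
    have h1 : c * n * c⁻¹ ∈ (⁅(S : Subgroup G), P⁆).map (MulAut.conj c).toMonoidHom :=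
      ⟨n, hn, rfl⟩
    rw [Subgroup.map_commutator, hPc] at h1
    exact (le_iSup (fun S : SylInv H P => ⁅(S : Subgroup G), P⁆) ⟨_, hS'⟩) h1
  -- `H` is generated by `H₂` and `C`
  have hgen : H ≤ H₂ ⊔ C := by
    set T : Subgroup G := ⨆ S : SylInv H P, (S : Subgroup G) with hT
    have hT1 : T ≤ H₂ ⊔ C := by
      apply iSup_le
      intro S
      have hact : CoprimeAct P (S : Subgroup G) := hA.coprimeAct.mono S.2.1 S.2.2.1
      have h1 := hact.commutator_sup_centralizer
      rw [← h1]
      apply sup_le_sup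
      · exact le_iSup (fun S : SylInv H P => ⁅(S : Subgroup G), P⁆) S
      · exact inf_le_inf_right _ S.2.1
    have hT2 : H ≤ T := by
      rw [← Subgroup.relIndex_eq_one]
      by_contra hne
      obtain ⟨s, hs, hsd⟩ := Nat.exists_prime_and_dvd hne
      have : Fact s.Prime := ⟨hs⟩
      obtain ⟨Q, hQ⟩ := hA.coprimeAct.exists_invariant_sylow s
      set S' : Subgroup G := (Q : Subgroup H).map H.subtype with hS'
      have hS'H : S' ≤ H := Subgroup.map_subtype_le _
      have hrel : S'.relIndex H = (Q : Subgroup H).index := by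
        show (S'.subgroupOf H).index = _
        congr 1
        show ((Q : Subgroup H).map H.subtype).comap H.subtype = _
        exact Subgroup.comap_map_eq_self_of_injective H.subtype_injective _
      have hmem : S' ∈ SylInv H P := by
        refine ⟨hS'H, hQ, s, hs, Q.isPGroup'.map _, ?_⟩
        rw [hrel]
        exact Q.not_dvd_index
      have hS'T : S' ≤ T := le_iSup (fun S : SylInv H P => (S : Subgroup G)) ⟨S', hmem⟩
      have hd : T.relIndex H ∣ S'.relIndex H := Subgroup.relIndex_dvd_of_le_left H hS'T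
      rw [hrel] at hd
      exact Q.not_dvd_index (hsd.trans hd)
    exact hT2.trans hT1
  -- conclusion
  apply le_antisymm hle
  have h5 : ⁅closure ((H₂ : Set G) ∪ (C : Set G)), P⁆ ≤ H₂ := by
    apply L24.comm_closure_le
    · rintro x (hx | hx)
      · exact Subgroup.le_normalizer hx
      · exact hCH₂ hx
    · rintro x (hx | hx) y hy
      · have h1 : y * x⁻¹ * y⁻¹ ∈ H₂ :=
          (Subgroup.mem_normalizer_iff.mp (hPH₂ hy) _).mp (inv_mem hx)
        have : ⁅x, y⁆ = x * (y * x⁻¹ * y⁻¹) := by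
          simp only [commutatorElement_def]; group
        rw [this]
        exact mul_mem hx h1
      · have hxc := (Subgroup.mem_centralizer_iff.mp (Subgroup.mem_inf.mp hx).2) y hy
        have : ⁅x, y⁆ = 1 := by
          rw [commutatorElement_eq_one_iff_mul_comm]
          exact hxc.symm
        rw [this]
        exact one_mem _
  rw [Subgroup.closure_union, Subgroup.closure_eq, Subgroup.closure_eq] at h5
  calc H = ⁅H, P⁆ := hHP.symm
    _ ≤ ⁅H₂ ⊔ C, P⁆ := Subgroup.commutator_mono hgen le_rfl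
    _ ≤ H₂ := h5

end Cfsg.Agent.Lib.Helper24.FL
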