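import Mathlib
import Cfsg.Agent.Lib.Helper24.FL.Defs

set_option autoImplicit false

namespace Cfsg.Agent.Lib.Helper24.FL

open Subgroup

universe u

variable {G : Type u} [Group G]

namespace L25

open scoped commutatorElement

theorem aux {ι : Sort*} {A : Subgroup G}
    (X : ι → Subgroup G)
    (hX : ∀ i, X i ≤ Subgroup.normalizer (A : Set G)) :
    ⁅A, ⨆ i, X i⁆ ≤ ⨆ i, ⁅A, X i⁆ := by
  set W : Subgroup G := ⨆ i, ⁅A, X i⁆ with hW
  have hWA : W ≤ A := by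
    refine iSup_le fun i => ?_
    rw [Subgroup.commutator_le]
    intro a ha x hx
    have hxn := hX i hx
    have h1 : x * a⁻¹ * x⁻¹ ∈ A := (hxn a⁻¹).mp (A.inv_mem ha)
    have : ⁅a, x⁆ = a * (x * a⁻¹ * x⁻¹) := by
      rw [commutatorElement_def]; group
    rw [this]
    exact A.mul_mem ha h1
  have hcomm : ∀ i, ∀ a ∈ A, ∀ x ∈ X i, ⁅a, x⁆ ∈ W := by
    intro i a ha x hx
    exact (le_iSup (fun i => ⁅A, X i⁆) i) (Subgroup.commutator_mem_commutator ha hx)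
  have key : ∀ g ∈ ⨆ i, X i, (∀ a ∈ A, ⁅a, g⁆ ∈ W) ∧ (∀ w ∈ W, g * w * g⁻¹ ∈ W) := by
    intro g hg
    refine Subgroup.iSup_induction X (C := fun g =>
      (∀ a ∈ A, ⁅a, g⁆ ∈ W) ∧ (∀ w ∈ W, g * w * g⁻¹ ∈ W)) hg ?_ ?_ ?_
    · intro i x hx
      refine ⟨fun a ha => hcomm i a ha x hx, fun w hw => ?_⟩
      have hwA : w⁻¹ ∈ A := A.inv_mem (hWA hw)
      have h1 : ⁅w⁻¹, x⁆ ∈ W := hcomm i _ hwA x hx
      have : x * w * x⁻¹ = w * ⁅w⁻¹, x⁆ := by
        rw [commutatorElement_def]; group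
      rw [this]
      exact W.mul_mem hw h1
    · refine ⟨fun a _ => ?_, fun w hw => ?_⟩
      · rw [commutatorElement_def]
        simp
      · simpa using hw
    · intro g h ⟨hg1, hg2⟩ ⟨hh1, hh2⟩
      refine ⟨fun a ha => ?_, fun w hw => ?_⟩
      · have : ⁅a, g * h⁆ = ⁅a, g⁆ * (g * ⁅a, h⁆ * g⁻¹) := by
          simp only [commutatorElement_def]; group
        rw [this]
        exact W.mul_mem (hg1 a ha) (hg2 _ (hh1 a ha))
      · have : g * h * w * (g * h)⁻¹ = g * (h * w * h⁻¹) * g⁻¹ := by group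
        rw [this]
        exact hg2 _ (hh2 w hw)
  rw [Subgroup.commutator_le]
  intro a ha g hg
  exact (key g hg).1 a ha

end L25

/-- For an abelian `A` normalised by all `X i`: `⁅A, ⨆ X i⁆ ≤ ⨆ ⁅A, X i⁆`.  `W := ⨆ ⁅A, X i⁆ ≤ A`
is normalised by every `X i` (`x w x⁻¹ = ⁅x,w⁆ w`) and `X i` acts trivially on `A / W`; so does the
join. -/
theorem abelian_comm_iSup {ι : Sort*} {A : Subgroup G}
    (hab : A ≤ Subgroup.centralizer (A : Set G)) (X : ι → Subgroup G)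
    (hX : ∀ i, X i ≤ Subgroup.normalizer (A : Set G)) :
    ⁅A, ⨆ i, X i⁆ ≤ ⨆ i, ⁅A, X i⁆ :=
  L25.aux X hX

end Cfsg.Agent.Lib.Helper24.FL
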