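import Mathlib
import Cfsg.Agent.Lib.Helper24.FL.Defs
import Cfsg.Agent.Lib.Helper1.CoprimeAbelian

set_option autoImplicit false

namespace Cfsg.Agent.Lib.Helper24.FL

open Subgroup

universe u

variable {G : Type u} [Group G]

namespace L26

open Cfsg.Agent.Lib.Helper1 in
open scoped IsMulCommutative in
/-- The norm map sends a `P`-invariant subgroup `B ≤ A` into `B ⊓ C(P)`. -/
theorem avg_mem (A P : Subgroup G) [IsMulCommutative A] [Fintype P]
    (hPA : P ≤ Subgroup.normalizer (A : Set G)) (B : Subgroup G)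
    (hPB : P ≤ Subgroup.normalizer (B : Set G)) (b : A) (hb : (b : G) ∈ B) :
    ((avgHom P A hPA b : A) : G) ∈ B ⊓ Subgroup.centralizer (P : Set G) := by
  refine ⟨?_, ?_⟩
  · have h1 : avgHom P A hPA b ∈ B.subgroupOf A := by
      show ∏ y : P, conjNormalizer A y (hPA y.2) b ∈ B.subgroupOf A
      apply Subgroup.prod_mem
      intro y _
      rw [Subgroup.mem_subgroupOf]
      show (y : G) * b * (y : G)⁻¹ ∈ B
      exact (Subgroup.mem_normalizer_iff.mp (hPB y.2) _).mp hb
    exact Subgroup.mem_subgroupOf.mp h1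
  · show ((avgHom P A hPA b : A) : G) ∈ Subgroup.centralizer (P : Set G)
    rw [Subgroup.mem_centralizer_iff]
    intro y hy
    have h1 : conjNormalizer A y (hPA hy) (avgHom P A hPA b) = avgHom P A hPA b := by
      show conjNormalizer A y (hPA hy) (∏ z : P, conjNormalizer A z (hPA z.2) b) =
        ∏ z : P, conjNormalizer A z (hPA z.2) b
      rw [map_prod]
      apply Fintype.prod_equiv (Equiv.mulLeft (⟨y, hy⟩ : P))
      intro z
      apply Subtype.ext
      simp [conjNormalizer, mul_assoc]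
    have h2 := congrArg Subtype.val h1
    have h3 : y * ((avgHom P A hPA b : A) : G) * y⁻¹ = ((avgHom P A hPA b : A) : G) := h2
    calc y * ((avgHom P A hPA b : A) : G)
        = y * ((avgHom P A hPA b : A) : G) * y⁻¹ * y := by group
      _ = ((avgHom P A hPA b : A) : G) * y := by rw [h3]

end L26

/-- Fixed points in an abelian group under coprime action commute with joins of invariant
subgroups: the norm map `ν a = ∏_{y ∈ P} y a y⁻¹` is an endomorphism of `A` with
`ν (B i) ≤ B i ⊓ C(P)` and `ν c = c ^ |P|` on `A ⊓ C(P)`, which is a bijection there.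
(`Cfsg.Agent.Lib.Helper1.CoprimeAbelian.avgHom`, `Cfsg.Agent.Lib.Helper27.CoprimeAbelian.autNormHom`.) -/
theorem abelian_fixed_iSup [Finite G] {ι : Sort*} {A P : Subgroup G}
    (hab : A ≤ Subgroup.centralizer (A : Set G)) (hPA : P ≤ Subgroup.normalizer (A : Set G))
    (hcop : (Nat.card A).Coprime (Nat.card P)) (B : ι → Subgroup G) (hB : ∀ i, B i ≤ A)
    (hPB : ∀ i, P ≤ Subgroup.normalizer ((B i : Subgroup G) : Set G)) :
    (⨆ i, B i) ⊓ Subgroup.centralizer (P : Set G) ≤
      ⨆ i, B i ⊓ Subgroup.centralizer (P : Set G) := by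
  classical
  have : IsMulCommutative A :=
    ⟨⟨fun a b => Subtype.ext (by
      show (a : G) * b = b * a
      exact (Subgroup.mem_centralizer_iff.mp (hab b.2) a a.2))⟩⟩
  have : Fintype P := Fintype.ofFinite P
  set T : Subgroup G := ⨆ i, B i ⊓ Subgroup.centralizer (P : Set G) with hT
  set ν := Cfsg.Agent.Lib.Helper1.avgHom P A hPA with hν
  -- the subgroup of elements of `A` whose norm lies in `T`
  set S : Subgroup G := (T.comap (A.subtype.comp ν)).map A.subtype with hS
  have hBS : ∀ i, B i ≤ S := by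
    intro i b hb
    refine ⟨⟨b, hB i hb⟩, ?_, rfl⟩
    show ((ν ⟨b, hB i hb⟩ : A) : G) ∈ T
    exact (le_iSup (fun i => B i ⊓ Subgroup.centralizer (P : Set G)) i)
      (L26.avg_mem A P hPA (B i) (hPB i) ⟨b, hB i hb⟩ hb)
  have hsup : (⨆ i, B i) ≤ S := iSup_le hBS
  rintro x ⟨hx1, hx2⟩
  obtain ⟨a, ha, rfl⟩ := hsup hx1
  have ha' : ((ν a : A) : G) ∈ T := ha
  have h1 : ν a = a ^ Fintype.card P :=
    Cfsg.Agent.Lib.Helper1.avgHom_of_mem_centralizer P A hPA a hx2
  rw [h1] at ha'
  have h2 : ((a : A) : G) ^ Fintype.card P ∈ T := by simpa using ha'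
  -- invert the power map
  have hord : (orderOf ((a : A) : G)).Coprime (Fintype.card P) := by
    have hd : orderOf ((a : A) : G) ∣ Nat.card A := by
      rw [Subgroup.orderOf_coe]; exact orderOf_dvd_natCard a
    rw [← Nat.card_eq_fintype_card]
    exact Nat.Coprime.coprime_dvd_left hd hcop
  obtain ⟨m, hm⟩ := exists_pow_eq_self_of_coprime hord.symm
  have h3 : (((a : A) : G) ^ Fintype.card P) ^ m ∈ T := pow_mem h2 m
  rw [hm] at h3
  exact h3

end Cfsg.Agent.Lib.Helper24.FL
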