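import Mathlib
import Cfsg.Agent.Lib.Helper24.FL.Defs
import Cfsg.Agent.Lib.Helper24.FL.L08
import Cfsg.Agent.Lib.Helper24.FL.L09
import Cfsg.Agent.Lib.Helper24.FL.L11
import Cfsg.Agent.Lib.Helper24.FL.L23
import Cfsg.Agent.Lib.Helper24.FL.L24
import Cfsg.Agent.Lib.Helper24.FL.L25
import Cfsg.Agent.Lib.Helper24.FL.L26
import Cfsg.Agent.Lib.Helper6.FLL27

set_option autoImplicit false

namespace Cfsg.Agent.Lib.Helper24.FL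

open Subgroup

universe u

variable {G : Type u} [Group G]

/-- Case I, first step.  `A` abelian.  `HP = P ⊔ ⨆ S, ⁅S,P⁆` (`gen_sylow_comm`, `MC.comm_eq`), so
`A = ⁅A, HP⁆ ≤ ⁅A,P⁆ ⊔ ⨆ S, ⁅A, ⁅S,P⁆⁆` (`MinA.comm_top`, `abelian_comm_iSup`), hence
`A ⊓ C(P) ≤ (⁅A,P⁆ ⊓ C(P)) ⊔ ⨆ S, ⁅A, ⁅S,P⁆⁆ ⊓ C(P)` (`abelian_fixed_iSup`) and
`⁅A,P⁆ ⊓ C(P) = ⊥` (`abelian_centralizer_inf_commutator_eq_bot`).  If `A ⊔ ⁅S,P⁆ ≠ H` then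
`MC.sub` gives `⁅A ⊔ ⁅S,P⁆, P⁆ ⊓ C(P) ≤ KK`, and `⁅A, ⁅S,P⁆⁆ ≤ ⁅A ⊔ ⁅S,P⁆, P⁆`
(the latter is normal in `A ⊔ ⁅S,P⁆` and contains `⁅⁅S,P⁆,P⁆ = ⁅S,P⁆`).  So if no `S` works then
`A ⊓ C(P) ≤ KK`, contradicting `MC.not_le`. -/
theorem MinA.caseI_exists [Finite G] {p : ℕ} [Fact p.Prime] {H P A : Subgroup G}
    (mc : MC p H P) (hA : MinA H P A) (hab : A ≤ Subgroup.centralizer (A : Set G)) :
    ∃ S ∈ SylInv H P, A ⊔ ⁅(S : Subgroup G), P⁆ = H := by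
  exact Cfsg.Agent.Lib.Helper6.FLL27.caseI_exists_spare mc hA hab

end Cfsg.Agent.Lib.Helper24.FL
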