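import Mathlib
import Cfsg.Agent.Lib.Helper24.FL.Defs
import Cfsg.Agent.Lib.Helper24.FL.L16

set_option autoImplicit false

namespace Cfsg.Agent.Lib.Helper24.FL

open Subgroup

universe u

variable {G : Type u} [Group G]

/-- Case I: the primes differ.  If `r = s` then `H = A ⊔ ⁅S,P⁆` is an `r`-group (`A ⊴ H`), hence
nilpotent, contradicting `MC.nilpotent_false`. -/
theorem MinA.caseI_prime_ne [Finite G] {p : ℕ} [Fact p.Prime] (hp2 : p ≠ 2) {H P A S : Subgroup G}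
    (mc : MC p H P) (hA : MinA H P A) {r s : ℕ} (hr : r.Prime) (hs : s.Prime)
    (hAr : IsPGroup r A) (hSs : IsPGroup s S) (hSH : S ≤ H)
    (hPS : P ≤ Subgroup.normalizer (S : Set G)) (hsup : A ⊔ ⁅S, P⁆ = H) : r ≠ s := by
  intro hrs
  subst hrs
  have : Fact r.Prime := ⟨hr⟩
  -- `⁅S,P⁆ ≤ S`
  have hTS : ⁅S, P⁆ ≤ S := by
    rw [Subgroup.commutator_le]
    intro a ha y hy
    have hyn := hPS hy
    have h1 : y * a⁻¹ * y⁻¹ ∈ S := (hyn a⁻¹).mp (S.inv_mem ha)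
    have : a * y * a⁻¹ * y⁻¹ = a * (y * a⁻¹ * y⁻¹) := by group
    show a * y * a⁻¹ * y⁻¹ ∈ S
    rw [this]
    exact S.mul_mem ha h1
  have hT : IsPGroup r (⁅S, P⁆ : Subgroup G) := hSs.to_le hTS
  have hTN : ⁅S, P⁆ ≤ Subgroup.normalizer (A : Set G) := (hTS.trans hSH).trans hA.nrm.2.1
  have hH : IsPGroup r (A ⊔ ⁅S, P⁆ : Subgroup G) := hAr.to_sup_of_normal_left' hT hTN
  rw [hsup] at hH
  exact MC.nilpotent_false hp2 mc hH.isNilpotent

end Cfsg.Agent.Lib.Helper24.FL
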