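import Mathlib
import Cfsg.Agent.Lib.Helper24.FL.Defs
import Cfsg.Agent.Lib.Helper24.FL.L12

set_option autoImplicit false

namespace Cfsg.Agent.Lib.Helper24.FL

open Subgroup

universe u

variable {G : Type u} [Group G]

/-- Case I: `Q := ⁅S,P⁆` acts faithfully on `A`.  `Q₀ := Q ⊓ C(A)` is normalised by `Q`, `P` and
(trivially) `A`, so `Nrm H P Q₀` (`H = A ⊔ Q`); if `Q₀ ≠ ⊥`, `MC.two_primes` for `A` (an `r`-group)
and `Q₀` (an `s`-group) gives `False`. -/
theorem MinA.caseI_faithful [Finite G] {p : ℕ} [Fact p.Prime] {H P A S : Subgroup G}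
    (mc : MC p H P) (hA : MinA H P A) {r s : ℕ} (hr : r.Prime) (hs : s.Prime) (hrs : r ≠ s)
    (hAr : IsPGroup r A) (hSs : IsPGroup s S) (hSH : S ≤ H)
    (hPS : P ≤ Subgroup.normalizer (S : Set G)) (hsup : A ⊔ ⁅S, P⁆ = H) :
    ⁅S, P⁆ ⊓ Subgroup.centralizer (A : Set G) = ⊥ := by
  classical
  by_contra hne
  have hQS : ⁅S, P⁆ ≤ S := Cfsg.Agent.Lib.Helper1.commutator_le_of_le_normalizer hPS
  have hQH : ⁅S, P⁆ ≤ H := by rw [← hsup]; exact le_sup_right
  have hHA : H ≤ normalizer (A : Set G) := hA.nrm.2.1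
  have hPA : P ≤ normalizer (A : Set G) := hA.nrm.2.2
  -- the normalizer of `A` normalizes the centralizer of `A`
  have hNC : ∀ g, g ∈ normalizer (A : Set G) → ∀ c ∈ centralizer (A : Set G),
      g * c * g⁻¹ ∈ centralizer (A : Set G) := by
    intro g hg c hc
    rw [mem_centralizer_iff] at hc ⊢
    intro a ha
    have ha' : g⁻¹ * a * g ∈ A := (mem_normalizer_iff''.mp hg a).mp ha
    have h1 := hc _ ha'
    calc a * (g * c * g⁻¹) = g * ((g⁻¹ * a * g) * c) * g⁻¹ := by group
      _ = g * (c * (g⁻¹ * a * g)) * g⁻¹ := by rw [h1]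
      _ = g * c * g⁻¹ * a := by group
  have hPQ : P ≤ normalizer ((⁅S, P⁆ : Subgroup G) : Set G) :=
    Cfsg.Agent.Lib.Helper1.le_normalizer_commutator_right
  have hnrm : Nrm H P (⁅S, P⁆ ⊓ centralizer (A : Set G)) := by
    refine ⟨inf_le_left.trans hQH, ?_, ?_⟩
    · have hsup' : A ⊔ ⁅S, P⁆ ≤
          normalizer ((⁅S, P⁆ ⊓ centralizer (A : Set G) : Subgroup G) : Set G) := by
        apply sup_le
        · apply Cfsg.Agent.Lib.Helper1.le_normalizer_of_forall_conj_mem
          intro a ha n hn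
          have hnc := (mem_inf.mp hn).2
          rw [mem_centralizer_iff] at hnc
          have h2 : a * n * a⁻¹ = n := by rw [hnc a ha]; group
          rw [h2]; exact hn
        · apply Cfsg.Agent.Lib.Helper1.le_normalizer_of_forall_conj_mem
          intro x hx n hn
          refine mem_inf.mpr ⟨?_, ?_⟩
          · exact mul_mem (mul_mem hx (mem_inf.mp hn).1) (inv_mem hx)
          · exact hNC x (hHA (hQH hx)) n (mem_inf.mp hn).2
      rw [hsup] at hsup'
      exact hsup'
    · apply Cfsg.Agent.Lib.Helper1.le_normalizer_of_forall_conj_mem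
      intro x hx n hn
      refine mem_inf.mpr ⟨?_, hNC x (hPA hx) n (mem_inf.mp hn).2⟩
      exact (mem_normalizer_iff.mp (hPQ hx) n).mp (mem_inf.mp hn).1
  have hAne : A ≠ ⊥ := by
    intro h
    apply hA.nc
    rw [h]
    exact bot_le
  exact mc.two_primes hA.nrm hAne hnrm hne hr hs hrs hAr
    (hSs.to_le (inf_le_left.trans hQS))

end Cfsg.Agent.Lib.Helper24.FL
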