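import Mathlib
import Cfsg.Agent.Lib.Helper24.FL.Defs
import Cfsg.Agent.Lib.Helper24.FL.L29
import Cfsg.Agent.Lib.Helper1.CoprimeAbelian

set_option autoImplicit false

namespace Cfsg.Agent.Lib.Helper24.FL

open Subgroup

universe u

variable {G : Type u} [Group G]

namespace L30

open scoped commutatorElement in
/-- an element normalising `K` and `L` normalises `⁅K, L⁆` -/
theorem le_normalizer_commutator_of_le {K L X : Subgroup G}
    (hK : X ≤ normalizer (K : Set G)) (hL : X ≤ normalizer (L : Set G)) :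
    X ≤ normalizer ((⁅K, L⁆ : Subgroup G) : Set G) := by
  apply Cfsg.Agent.Lib.Helper1.le_normalizer_of_forall_conj_mem
  intro x hx n hn
  induction hn using Subgroup.closure_induction with
  | mem y hy =>
    obtain ⟨k, hk, l, hl, rfl⟩ := hy
    have h1 : x * ⁅k, l⁆ * x⁻¹ = ⁅x * k * x⁻¹, x * l * x⁻¹⁆ := by
      simp only [commutatorElement_def]; group
    rw [h1]
    exact Subgroup.commutator_mem_commutator
      ((mem_normalizer_iff.mp (hK hx) k).mp hk) ((mem_normalizer_iff.mp (hL hx) l).mp hl)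
  | one => simp
  | mul y z _ _ hy hz =>
    have : x * (y * z) * x⁻¹ = (x * y * x⁻¹) * (x * z * x⁻¹) := by group
    rw [this]; exact mul_mem hy hz
  | inv y _ hy =>
    have : x * y⁻¹ * x⁻¹ = (x * y * x⁻¹)⁻¹ := by group
    rw [this]; exact inv_mem hy

end L30

/-- Case I: `A` is irreducible under `QP`, `Q := ⁅S,P⁆`.  First `⁅A,Q⁆ = A`: it is normal in `HP`
(`H = A ⊔ Q`, `A` abelian); if proper it is central, so `⁅⁅A,Q⁆,Q⁆ = ⊥`, so `⁅A,Q⁆ = ⊥` (coprime
action of the `s`-group `Q` on the `r`-group `A`), so `Q ≤ C(A)`, `Q = ⊥` (`caseI_faithful`),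
`H = A ≤ Cen`... contradiction with `hA.nc` (`A = H` abelian and `⁅H,P⁆ = H` give `H ⊓ C(P) = ⊥`,
or simply: `Q = ⊥` gives `⁅A, Q⁆ = ⊥ ≠ A`, and `A ≠ ⊥`).  Hence `A ⊓ C(Q) = ⊥`
(`abelian_centralizer_inf_commutator_eq_bot`).  Now a `B ≤ A` normalised by `Q` and `P` is normal
in `HP`; if `B ≠ A` it is central, so `B ≤ A ⊓ C(Q) = ⊥`. -/
theorem MinA.caseI_irr [Finite G] {p : ℕ} [Fact p.Prime] {H P A S : Subgroup G}
    (mc : MC p H P) (hA : MinA H P A) (hab : A ≤ Subgroup.centralizer (A : Set G))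
    {r s : ℕ} (hr : r.Prime) (hs : s.Prime) (hrs : r ≠ s)
    (hAr : IsPGroup r A) (hSs : IsPGroup s S) (hSH : S ≤ H)
    (hPS : P ≤ Subgroup.normalizer (S : Set G)) (hsup : A ⊔ ⁅S, P⁆ = H) :
    ∀ B : Subgroup G, B ≤ A → ⁅S, P⁆ ≤ Subgroup.normalizer (B : Set G) →
      P ≤ Subgroup.normalizer (B : Set G) → B = ⊥ ∨ B = A := by
  classical
  intro B hBA hQB hPB
  haveI : Fact r.Prime := ⟨hr⟩
  haveI : Fact s.Prime := ⟨hs⟩
  have hfaith := MinA.caseI_faithful mc hA hr hs hrs hAr hSs hSH hPS hsup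
  have hQS : ⁅S, P⁆ ≤ S := Cfsg.Agent.Lib.Helper1.commutator_le_of_le_normalizer hPS
  have hPQ : P ≤ normalizer ((⁅S, P⁆ : Subgroup G) : Set G) :=
    Cfsg.Agent.Lib.Helper1.le_normalizer_commutator_right
  generalize ⁅S, P⁆ = Q at *
  have hQH : Q ≤ H := by rw [← hsup]; exact le_sup_right
  have hQA : Q ≤ normalizer (A : Set G) := hQH.trans hA.nrm.2.1
  have hPA : P ≤ normalizer (A : Set G) := hA.nrm.2.2
  -- `A` is commutative
  have hcommA : ∀ a ∈ A, ∀ b ∈ A, a * b = b * a := by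
    intro a ha b hb
    have := hab hb
    rw [mem_centralizer_iff] at this
    exact this a ha
  haveI : IsMulCommutative ↥A := ⟨⟨fun a b => Subtype.ext (hcommA a a.2 b b.2)⟩⟩
  have hsolvA : Group.IsSolvable ↥A :=
    Group.isSolvable_of_comm (fun a b => IsMulCommutative.is_comm.comm a b)
  -- coprimality of `Q` and `A`
  have hcop : (Nat.card Q).Coprime (Nat.card A) := by
    obtain ⟨m, hm⟩ := (IsPGroup.iff_card).mp (hSs.to_le hQS)
    obtain ⟨n, hn⟩ := (IsPGroup.iff_card).mp hAr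
    rw [hm, hn]
    exact Nat.Coprime.pow _ _ ((Nat.coprime_primes hs hr).2 hrs.symm)
  have hca : Cfsg.Agent.Lib.Helper1.CoprimeAct Q A := ⟨hQA, hcop, Or.inr hsolvA⟩
  have hAQA : ⁅A, Q⁆ ≤ A := Cfsg.Agent.Lib.Helper1.commutator_le_of_le_normalizer hQA
  -- Step 1: `⁅A, Q⁆ = A`
  have hcomm : ⁅A, Q⁆ = A := by
    by_contra hne
    have hnrm1 : Nrm H P ⁅A, Q⁆ := by
      refine ⟨hAQA.trans hA.nrm.1, ?_, ?_⟩
      · have h1 : A ⊔ Q ≤ normalizer ((⁅A, Q⁆ : Subgroup G) : Set G) :=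
          sup_le Cfsg.Agent.Lib.Helper1.le_normalizer_commutator_left
            Cfsg.Agent.Lib.Helper1.le_normalizer_commutator_right
        rw [hsup] at h1
        exact h1
      · exact L30.le_normalizer_commutator_of_le hPA hPQ
    have hcen : ⁅A, Q⁆ ≤ Cen H P := hA.min _ hnrm1 hAQA hne
    have hcenQ : ⁅A, Q⁆ ≤ centralizer (Q : Set G) := by
      refine hcen.trans (inf_le_left.trans ?_)
      exact Subgroup.centralizer_le (by exact_mod_cast hQH)
    have h2 : ⁅⁅A, Q⁆, Q⁆ = ⊥ := Subgroup.commutator_eq_bot_iff_le_centralizer.mpr hcenQ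
    have h3 : ⁅A, Q⁆ = ⊥ := by rw [← hca.commutator_commutator_eq]; exact h2
    have h4 : A ≤ centralizer (Q : Set G) := Subgroup.commutator_eq_bot_iff_le_centralizer.mp h3
    have h5 : Q ≤ centralizer (A : Set G) := by
      rw [Subgroup.le_centralizer_iff]; exact h4
    have hQbot : Q = ⊥ := by
      rw [← hfaith]; exact (inf_eq_left.mpr h5).symm
    have hHA : A = H := by rw [← hsup, hQbot, sup_bot_eq]
    -- `H = A` abelian gives `Good H P`
    apply mc.bad
    subst hHA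
    have hcopP : (Nat.card P).Coprime (Nat.card A) := by
      rw [mc.act.cardP]; exact mc.act.cop.symm
    have hbot := Cfsg.Agent.Lib.Helper1.abelian_centralizer_inf_commutator_eq_bot P A hPA hcopP
    intro x hx
    have hxA : x ∈ A :=
      (Cfsg.Agent.Lib.Helper1.commutator_le_of_le_normalizer hPA) (mem_inf.mp hx).1
    have hx1 : x ∈ (A ⊓ centralizer (P : Set G)) ⊓ ⁅A, P⁆ :=
      mem_inf.mpr ⟨mem_inf.mpr ⟨hxA, (mem_inf.mp hx).2⟩, (mem_inf.mp hx).1⟩
    rw [hbot, mem_bot] at hx1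
    rw [hx1]
    exact one_mem _
  -- Step 2: `A ⊓ C(Q) = ⊥`
  have hAC : A ⊓ centralizer (Q : Set G) = ⊥ := by
    have h := Cfsg.Agent.Lib.Helper1.abelian_centralizer_inf_commutator_eq_bot Q A hQA hcop
    rw [hcomm] at h
    rw [← h]
    exact (inf_eq_left.mpr inf_le_left).symm
  -- Step 3
  by_cases hBA' : B = A
  · exact Or.inr hBA'
  · left
    have hnrmB : Nrm H P B := by
      refine ⟨hBA.trans hA.nrm.1, ?_, hPB⟩
      have h1 : A ⊔ Q ≤ normalizer (B : Set G) := by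
        apply sup_le _ hQB
        apply Cfsg.Agent.Lib.Helper1.le_normalizer_of_forall_conj_mem
        intro a ha n hn
        have h2 : a * n * a⁻¹ = n := by rw [hcommA a ha n (hBA hn)]; group
        rw [h2]; exact hn
      rw [hsup] at h1
      exact h1
    have hcen : B ≤ Cen H P := hA.min B hnrmB hBA hBA'
    have hBQ : B ≤ centralizer (Q : Set G) :=
      hcen.trans (inf_le_left.trans (Subgroup.centralizer_le (by exact_mod_cast hQH)))
    rw [eq_bot_iff, ← hAC]
    exact le_inf hBA hBQ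

end Cfsg.Agent.Lib.Helper24.FL
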