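import Mathlib
import Cfsg.Agent.Lib.Helper24.FL.Defs
import Cfsg.Agent.Lib.Helper24.FL.L22
import Cfsg.Agent.Lib.Helper24.FL.L28
import Cfsg.Agent.Lib.Helper24.FL.L29
import Cfsg.Agent.Lib.Helper24.FL.L30
import Cfsg.Agent.Lib.Helper1.CoprimeAbelian

set_option autoImplicit false

namespace Cfsg.Agent.Lib.Helper24.FL

open Subgroup

universe u

variable {G : Type u} [Group G]

namespace L31

/-- If `H` is abelian (and `P` acts coprimely on it), then `Good H P` holds trivially: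
`⁅H,P⁆ ⊓ C(P) = ⊥`. -/
theorem good_of_abelian [Finite G] {p : ℕ} {H P : Subgroup G} (act : Act p H P)
    (hab : H ≤ Subgroup.centralizer (H : Set G)) : Good H P := by
  have : IsMulCommutative H :=
    ⟨⟨fun a b => Subtype.ext (by
      show (a : G) * b = b * a
      exact (Subgroup.mem_centralizer_iff.mp (hab b.2) a a.2))⟩⟩
  have hcop : (Nat.card P).Coprime (Nat.card H) := by
    rw [act.cardP]; exact act.cop.symm
  have h1 := Cfsg.Agent.Lib.Helper1.abelian_centralizer_inf_commutator_eq_bot P H act.norm hcop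
  have h2 : ⁅H, P⁆ ≤ H := Cfsg.Agent.Lib.Helper1.commutator_le_of_le_normalizer act.norm
  intro x hx
  have hx' : x ∈ (H ⊓ Subgroup.centralizer (P : Set G)) ⊓ ⁅H, P⁆ :=
    ⟨⟨h2 hx.1, hx.2⟩, hx.1⟩
  rw [h1, Subgroup.mem_bot] at hx'
  rw [hx']
  exact one_mem _

end L31

/-- Case I: assembling the configuration `B2 p H P A ⁅S,P⁆`.  `r` from `MinA.isPGroup`, `s` from
`hS`; `r ≠ s` (`caseI_prime_ne`); `commQ` is `CoprimeAct.commutator_commutator_eq` (for `P` on `S`);
`cop` from the two primes (`⁅S,P⁆ ≤ S`); `faithful`, `irr` from `caseI_faithful`, `caseI_irr`;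
`neM`: `A ≰ Cen`; `neQ`: else `H = A` abelian `= ⁅H,P⁆`, so `H ⊓ C(P) = ⊥` and `Good H P`; `pM`, `pQ`: `r`, `s`. -/
theorem MinA.caseI_B2 [Finite G] {p : ℕ} [Fact p.Prime] (hp2 : p ≠ 2) {H P A S : Subgroup G}
    (mc : MC p H P) (hA : MinA H P A) (hab : A ≤ Subgroup.centralizer (A : Set G))
    (hS : S ∈ SylInv H P) (hsup : A ⊔ ⁅S, P⁆ = H) : B2 p H P A ⁅S, P⁆ := by
  obtain ⟨r, hr, hAr⟩ := MinA.isPGroup mc hA hab
  obtain ⟨hSH, hPS, s, hs, hSs, -⟩ := hS
  have hrs : r ≠ s := MinA.caseI_prime_ne hp2 mc hA hr hs hAr hSs hSH hPS hsup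
  have hQS : ⁅S, P⁆ ≤ S := Cfsg.Agent.Lib.Helper1.commutator_le_of_le_normalizer hPS
  have hQs : IsPGroup s (⁅S, P⁆ : Subgroup G) := hSs.to_le hQS
  refine
    { mc := mc
      nrmM := hA.nrm
      sup := hsup
      PQ := Cfsg.Agent.Lib.Helper1.le_normalizer_commutator_right
      commQ := ?_
      abM := hab
      cop := ?_
      faithful := MinA.caseI_faithful mc hA hr hs hrs hAr hSs hSH hPS hsup
      irr := MinA.caseI_irr mc hA hab hr hs hrs hAr hSs hSH hPS hsup
      neM := ?_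
      neQ := ?_
      pM := ⟨r, hr, hAr⟩
      pQ := ⟨s, hs, hQs⟩ }
  · exact ((mc.act.coprimeAct).mono hSH hPS).commutator_commutator_eq
  · have := Fact.mk hr
    have := Fact.mk hs
    obtain ⟨a, ha⟩ := hAr.exists_card_eq
    obtain ⟨c, hc⟩ := hQs.exists_card_eq
    rw [ha, hc]
    exact Nat.Coprime.pow _ _ ((Nat.coprime_primes hr hs).mpr hrs)
  · intro h
    apply hA.nc
    rw [h]
    exact bot_le
  · intro h
    apply mc.bad
    rw [h, sup_bot_eq] at hsup
    apply L31.good_of_abelian mc.act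
    rw [← hsup]
    exact hab

end Cfsg.Agent.Lib.Helper24.FL
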