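import Mathlib
import Cfsg.Agent.Lib.Helper24.FL.Defs
import Cfsg.Agent.Lib.Helper24.FL.L04
import Cfsg.Agent.Lib.Helper24.FL.L09
import Cfsg.Agent.Lib.Helper24.FL.L11
import Cfsg.Agent.Lib.Helper24.FL.L25
import Cfsg.Agent.Lib.Helper24.FL.L26

set_option autoImplicit false

namespace Cfsg.Agent.Lib.Helper24.FL

open Subgroup

universe u

variable {G : Type u} [Group G]

open scoped commutatorElement

namespace L32

/-- an element normalising `A` and `B` normalises `⁅A, B⁆` -/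
theorem normalizer_commutator (A B : Subgroup G) :
    normalizer (A : Set G) ⊓ normalizer (B : Set G) ≤
      normalizer ((⁅A, B⁆ : Subgroup G) : Set G) := by
  intro g hg
  simp_rw [mem_inf, mem_normalizer_iff_map_conj_eq] at hg
  rw [mem_normalizer_iff_map_conj_eq, Subgroup.map_commutator, hg.1, hg.2]

/-- `⁅q, y⁆` is a generator of `D P q⁻¹` -/
theorem comm_mem_D (P : Subgroup G) {q y : G} (hy : y ∈ P) : ⁅q, y⁆ ∈ D P q⁻¹ := by
  unfold D
  apply Subgroup.subset_closure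
  refine ⟨y, hy, ?_⟩
  rw [commutatorElement_def]
  group

/-- if `X ≤ N(M)`, `D ≤ Q`, `M ⊓ Q = ⊥` and `M ⊔ D = M ⊔ Q` then `D = Q` -/
theorem eq_of_sup_eq {M Q D₀ : Subgroup G} (hDQ : D₀ ≤ Q)
    (hDM : D₀ ≤ normalizer (M : Set G)) (hMQ : M ⊓ Q = ⊥) (h : Q ≤ M ⊔ D₀) : D₀ = Q := by
  apply le_antisymm hDQ
  intro q hq
  have hq' : q ∈ ((D₀ ⊔ M : Subgroup G) : Set G) := by
    rw [sup_comm]; exact h hq
  rw [Subgroup.coe_mul_of_left_le_normalizer_right D₀ M hDM] at hq'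
  obtain ⟨d, hd, m, hm, hdm⟩ := hq'
  simp only at hdm
  have hmQ : m ∈ Q := by
    have : m = d⁻¹ * q := by rw [← hdm]; group
    rw [this]
    exact mul_mem (inv_mem (hDQ hd)) hq
  have hm1 : m = 1 := by
    have : m ∈ M ⊓ Q := ⟨hm, hmQ⟩
    rw [hMQ] at this
    exact this
  rw [← hdm, hm1, mul_one]
  exact hd

end L32

/-- B2 (a): some `u ∈ Q` has `D P u = Q`.  Otherwise for every `u ∈ Q`, `D P u < Q` (`D P u ≤ Q` as
`P` normalises `Q`), `H₀ := M ⊔ D P u ≠ H` (orders: `M ⊓ Q = ⊥` by coprimality), and `MC.sub` gives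
`⁅H₀,P⁆ ⊓ C(P) ≤ KK`; `⁅H₀,P⁆ ⊴ H₀` contains `⁅D P u,P⁆ = D P u` (`D_comm_eq`) hence `⁅M, D P u⁆`.
`Q = ⁅Q,P⁆ = ⨆_{u ∈ Q} D P u` (generators `⁅q,y⁆ = D`-generator for `u = q⁻¹`), and `⁅M,Q⁆ = M`
(it is `Q`,`P`-invariant, nontrivial by faithfulness, so `= M` by `irr`).  So
`M ≤ ⨆ ⁅M, D P u⁆` (`abelian_comm_iSup`), `M ⊓ C(P) ≤ ⨆ ⁅M, D P u⁆ ⊓ C(P) ≤ KK`
(`abelian_fixed_iSup`), contradicting `MC.not_le` for `N := M`. -/
theorem B2.exists_u [Finite G] {p : ℕ} [Fact p.Prime] {H P M Q : Subgroup G}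
    (b : B2 p H P M Q) : ∃ u ∈ Q, D P u = Q := by
  by_contra hcon
  push Not at hcon
  have hA : Act p H P := b.mc.act
  have hMH : M ≤ H := b.nrmM.1
  have hHM : H ≤ normalizer (M : Set G) := b.nrmM.2.1
  have hPM : P ≤ normalizer (M : Set G) := b.nrmM.2.2
  have hQH : Q ≤ H := by rw [← b.sup]; exact le_sup_right
  have hQM : Q ≤ normalizer (M : Set G) := hQH.trans hHM
  have hMQ : M ⊓ Q = ⊥ := (Subgroup.disjoint_of_coprime_natCard b.cop).eq_bot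
  -- `D P u ≤ Q`
  have hDQ : ∀ u ∈ Q, D P u ≤ Q := fun u hu => D_le b.PQ hu
  have hDN : ∀ u ∈ Q, D P u ≤ normalizer (M : Set G) := fun u hu => (hDQ u hu).trans hQM
  -- step C: `⁅M, D P u⁆ ⊓ C(P) ≤ KK H P`
  have hC : ∀ u ∈ Q, ⁅M, D P u⁆ ⊓ centralizer (P : Set G) ≤ KK H P := by
    intro u hu
    have h1 : M ⊔ D P u ≤ H := sup_le hMH ((hDQ u hu).trans hQH)
    have h2 : M ⊔ D P u ≠ H := by
      intro h
      apply hcon u hu
      apply L32.eq_of_sup_eq (hDQ u hu) (hDN u hu) hMQ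
      rw [h]
      exact hQH
    have h3 : P ≤ normalizer ((M ⊔ D P u : Subgroup G) : Set G) :=
      (le_inf hPM (D_normalizer P u)).trans (normalizer_inf_normalizer_le_normalizer_sup _ _)
    have h4 := MC.sub b.mc h1 h2 h3
    refine le_trans (inf_le_inf_right _ ?_) h4
    -- `⁅M, D P u⁆ ≤ ⁅M ⊔ D P u, P⁆`
    have h5 : D P u ≤ ⁅M ⊔ D P u, P⁆ :=
      calc D P u = ⁅D P u, P⁆ := (D_comm_eq hA (hQH hu)).symm
        _ ≤ ⁅M ⊔ D P u, P⁆ := Subgroup.commutator_mono le_sup_right le_rfl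
    have h6 : M ⊔ D P u ≤ normalizer ((⁅M ⊔ D P u, P⁆ : Subgroup G) : Set G) :=
      Cfsg.Agent.Lib.Helper1.le_normalizer_commutator_left
    rw [Subgroup.commutator_le]
    intro m hm d hd
    have hd' := h5 hd
    have hmn : m ∈ normalizer ((⁅M ⊔ D P u, P⁆ : Subgroup G) : Set G) := h6 (le_sup_left (a := M) hm)
    have h7 : m * d * m⁻¹ ∈ ⁅M ⊔ D P u, P⁆ := (Subgroup.mem_normalizer_iff.mp hmn d).mp hd'
    rw [commutatorElement_def]
    exact mul_mem h7 (inv_mem hd')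
  -- step D: `Q ≤ ⨆ u : Q, D P u`
  have hD : Q ≤ ⨆ u : Q, D P (u : G) := by
    have h0 : ⁅Q, P⁆ ≤ ⨆ u : Q, D P (u : G) := by
      rw [Subgroup.commutator_le]
      intro q hq y hy
      have h1 : ⁅q, y⁆ ∈ D P ((⟨q⁻¹, inv_mem hq⟩ : Q) : G) := L32.comm_mem_D P hy
      exact (le_iSup (fun u : Q => D P (u : G)) ⟨q⁻¹, inv_mem hq⟩) h1
    calc Q = ⁅Q, P⁆ := b.commQ.symm
      _ ≤ _ := h0
  -- step E: `⁅M, Q⁆ = M`
  have hE : ⁅M, Q⁆ = M := by
    have h1 : ⁅M, Q⁆ ≤ M := Cfsg.Agent.Lib.Helper1.commutator_le_of_le_normalizer hQM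
    have h2 : Q ≤ normalizer ((⁅M, Q⁆ : Subgroup G) : Set G) :=
      Cfsg.Agent.Lib.Helper1.le_normalizer_commutator_right
    have h3 : P ≤ normalizer ((⁅M, Q⁆ : Subgroup G) : Set G) :=
      (le_inf hPM b.PQ).trans (L32.normalizer_commutator M Q)
    rcases b.irr _ h1 h2 h3 with h | h
    · exfalso
      rw [Subgroup.commutator_eq_bot_iff_le_centralizer] at h
      have h4 : Q ≤ centralizer (M : Set G) := by
        intro q hq
        rw [Subgroup.mem_centralizer_iff]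
        intro m hm
        have := h hm
        rw [Subgroup.mem_centralizer_iff] at this
        exact (this q hq).symm
      apply b.neQ
      rw [← b.faithful]
      exact (inf_eq_left.mpr h4).symm
    · exact h
  -- step F: `M ≤ ⨆ u, ⁅M, D P u⁆`
  have hF : M ≤ ⨆ u : Q, ⁅M, D P (u : G)⁆ := by
    calc M = ⁅M, Q⁆ := hE.symm
      _ ≤ ⁅M, ⨆ u : Q, D P (u : G)⁆ := Subgroup.commutator_mono le_rfl hD
      _ ≤ ⨆ u : Q, ⁅M, D P (u : G)⁆ :=
        abelian_comm_iSup b.abM (fun u : Q => D P (u : G)) (fun u => hDN u u.2)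
  -- step G
  have hcop : (Nat.card M).Coprime (Nat.card P) := by
    rw [hA.cardP]
    exact Nat.Coprime.coprime_dvd_left (Subgroup.card_dvd_of_le hMH) hA.cop
  have hBM : ∀ u : Q, ⁅M, D P (u : G)⁆ ≤ M := fun u =>
    Cfsg.Agent.Lib.Helper1.commutator_le_of_le_normalizer (hDN u u.2)
  have hPB : ∀ u : Q, P ≤ normalizer ((⁅M, D P (u : G)⁆ : Subgroup G) : Set G) := fun u =>
    (le_inf hPM (D_normalizer P u)).trans (L32.normalizer_commutator M (D P (u : G)))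
  have hG : M ⊓ centralizer (P : Set G) ≤ KK H P := by
    calc M ⊓ centralizer (P : Set G)
        ≤ (⨆ u : Q, ⁅M, D P (u : G)⁆) ⊓ centralizer (P : Set G) := inf_le_inf_right _ hF
      _ ≤ ⨆ u : Q, ⁅M, D P (u : G)⁆ ⊓ centralizer (P : Set G) :=
        abelian_fixed_iSup b.abM hPM hcop (fun u : Q => ⁅M, D P (u : G)⁆) hBM hPB
      _ ≤ KK H P := iSup_le (fun u => hC u u.2)
  exact MC.not_le b.mc b.nrmM b.neM hG

end Cfsg.Agent.Lib.Helper24.FL
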