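import Mathlib
import Cfsg.Agent.Lib.Helper24.FL.Defs
import Cfsg.Agent.Lib.Helper24.FL.L01
import Cfsg.Agent.Lib.Helper24.FL.L02
import Cfsg.Agent.Lib.Helper24.FL.L03
import Cfsg.Agent.Lib.Helper1.Coprime
import Cfsg.Agent.Lib.Helper1.Basic

set_option autoImplicit false

namespace Cfsg.Agent.Lib.Helper24.FL

open Subgroup

universe u

variable {G : Type u} [Group G]

namespace L33

open Cfsg.Agent.Lib.Helper1

/-- order of a coprime semidirect product -/
theorem card_sup_of_coprimeAct [Finite G] {A K : Subgroup G} (h : CoprimeAct A K) :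
    Nat.card ↥(A ⊔ K) = Nat.card A * Nat.card K := by
  have h1 := h.complement.card_mul_card
  rw [h.card_subgroupOf_left, h.card_subgroupOf_right] at h1
  rw [← h1, mul_comm]

/-- order of `X ⊔ M` when `X` normalises `M` and meets it trivially -/
theorem card_sup_of_disjoint [Finite G] {X M : Subgroup G}
    (hX : X ≤ normalizer (M : Set G)) (hd : M ⊓ X = ⊥) :
    Nat.card ↥(X ⊔ M) = Nat.card X * Nat.card M := by
  have hn : (M.subgroupOf (X ⊔ M)).Normal := Subgroup.normal_subgroupOf_sup_of_le_normalizer hX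
  have hc : IsComplement' (M.subgroupOf (X ⊔ M)) (X.subgroupOf (X ⊔ M)) := by
    apply isComplement'_of_disjoint_of_sup_eq_top
    · rw [disjoint_iff, eq_bot_iff]
      intro x hx
      rw [Subgroup.mem_inf, Subgroup.mem_subgroupOf, Subgroup.mem_subgroupOf] at hx
      have h1 : (x : G) ∈ M ⊓ X := Subgroup.mem_inf.mpr hx
      rw [hd, Subgroup.mem_bot] at h1
      rw [Subgroup.mem_bot]
      exact Subtype.ext h1
    · rw [sup_comm (M.subgroupOf (X ⊔ M))]
      exact codisjoint_iff.mp (Subgroup.codisjoint_subgroupOf_sup X M)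
  have h2 := hc.card_mul_card
  rw [Nat.card_congr (Subgroup.subgroupOfEquivOfLe (le_sup_right : M ≤ X ⊔ M)).toEquiv,
    Nat.card_congr (Subgroup.subgroupOfEquivOfLe (le_sup_left : X ≤ X ⊔ M)).toEquiv] at h2
  rw [← h2, mul_comm]

end L33

open Cfsg.Agent.Lib.Helper1 in
/-- B2 (b): `|M| ≤ |C_M(P)|²`.  Let `L := Q ⊔ P = ⟨P, u⁻¹Pu⟩` (as `D P u = Q`), a complement to
`M` in `G₀ := H ⊔ P`.  For `m ∈ M` let `h := u * m`, `L' := D P h ⊔ P = ⟨P, h⁻¹ P h⟩`.  Then
`L' ⊔ M = G₀` and `L' ⊓ M` is normal in `G₀`, so `⊥` or `M` (`b.irr`); if `M ≤ L'` then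
`L' = G₀`, `D P h = H` (orders), `KK ≥ H ⊓ C(P)`, i.e. `Good H P`, contradiction.  So `L'` is a
complement too and `L' = a L a⁻¹` with `a ∈ M`
(`Cfsg.Agent.Lib.Helper1.conj_complement_of_abelian` in `↥(H ⊔ P)`).  From `P ≤ L ⊓ a L a⁻¹` and
`L ⊓ M P = P`: `a ∈ N_M(P) = C_M(P)`; likewise for `P₁ := u⁻¹ P u ≤ L` and
`(m a)⁻¹ P₁ (m a) ≤ L`: `m * a ∈ C_M(P₁)`.  Hence `M ⊆ C_M(P₁) · C_M(P)` and
`|C_M(P₁)| = |C_M(P)|` (conjugate by `u`, which normalises `M`). -/
theorem B2.card_le [Finite G] {p : ℕ} [Fact p.Prime] {H P M Q : Subgroup G}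
    (b : B2 p H P M Q) {u : G} (hu : u ∈ Q) (hD : D P u = Q) :
    Nat.card M ≤ Nat.card ↥(M ⊓ Subgroup.centralizer (P : Set G)) ^ 2 := by
  classical
  have act := b.mc.act
  have hMH : M ≤ H := b.nrmM.1
  have hHM : H ≤ normalizer (M : Set G) := b.nrmM.2.1
  have hPM : P ≤ normalizer (M : Set G) := b.nrmM.2.2
  have hQH : Q ≤ H := by rw [← b.sup]; exact le_sup_right
  have hPH : P ≤ normalizer (H : Set G) := act.norm
  -- `L = Q ⊔ P`
  have hPQ : CoprimeAct P Q := act.coprimeAct.mono hQH b.PQ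
  have hcardL : Nat.card ↥(P ⊔ Q) = Nat.card P * Nat.card Q := L33.card_sup_of_coprimeAct hPQ
  have hLM : P ⊔ Q ≤ normalizer (M : Set G) := sup_le hPM (hQH.trans hHM)
  have hcopPM : (Nat.card P).Coprime (Nat.card M) := by
    rw [act.cardP]
    exact (Nat.Coprime.coprime_dvd_left (Subgroup.card_dvd_of_le hMH) act.cop).symm
  haveI hsolvH : Group.IsSolvable ↥H := act.solv
  have hL : CoprimeAct (P ⊔ Q) M :=
    { norm := hLM
      cop := by
        rw [hcardL]
        exact Nat.Coprime.mul_left hcopPM b.cop.symm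
      solv := Or.inr (Group.isSolvable_of_isSolvable_injective
        (f := Subgroup.inclusion hMH) (Subgroup.inclusion_injective hMH)) }
  have hLMbot : M ⊓ (P ⊔ Q) = ⊥ := hL.inf_eq_bot
  have hcardLM : Nat.card ↥((P ⊔ Q) ⊔ M) = Nat.card ↥(P ⊔ Q) * Nat.card M :=
    L33.card_sup_of_coprimeAct hL
  have hLMeq : (P ⊔ Q) ⊔ M = H ⊔ P := by
    rw [← b.sup]
    apply le_antisymm
    · exact sup_le (sup_le le_sup_right (le_sup_of_le_left le_sup_right))
        (le_sup_of_le_left le_sup_left)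
    · exact sup_le (sup_le le_sup_right (le_sup_of_le_left le_sup_right))
        (le_sup_of_le_left le_sup_left)
  -- the key claim
  have key : ∀ m ∈ M, ∃ a ∈ M ⊓ centralizer (P : Set G),
      u * (m * a) * u⁻¹ ∈ M ⊓ centralizer (P : Set G) := by
    intro m hm
    set h : G := u * m with hh
    have hhH : h ∈ H := mul_mem (hQH hu) (hMH hm)
    have hDH : D P h ≤ H := D_le hPH hhH
    have hDP : P ≤ normalizer ((D P h : Subgroup G) : Set G) := D_normalizer P h
    have hPD : CoprimeAct P (D P h) := act.coprimeAct.mono hDH hDP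
    have hcardL' : Nat.card ↥(P ⊔ D P h) = Nat.card P * Nat.card (D P h) :=
      L33.card_sup_of_coprimeAct hPD
    have hL'le : P ⊔ D P h ≤ H ⊔ P := sup_le le_sup_right (hDH.trans le_sup_left)
    have hL'M : P ⊔ D P h ≤ normalizer (M : Set G) := sup_le hPM (hDH.trans hHM)
    -- `Q ≤ L' ⊔ M`
    have hQle : Q ≤ (P ⊔ D P h) ⊔ M := by
      rw [← hD]
      unfold D
      rw [Subgroup.closure_le]
      rintro c ⟨y, hy, rfl⟩
      have hgen : h⁻¹ * (y * h * y⁻¹) ∈ D P h :=
        Subgroup.subset_closure ⟨y, hy, rfl⟩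
      have hym : y * m⁻¹ * y⁻¹ ∈ M :=
        (Subgroup.mem_normalizer_iff.mp (hPM hy) _).mp (inv_mem hm)
      have heq : u⁻¹ * (y * u * y⁻¹) = m * (h⁻¹ * (y * h * y⁻¹)) * (y * m⁻¹ * y⁻¹) := by
        rw [hh]; group
      rw [SetLike.mem_coe, heq]
      exact mul_mem (mul_mem (Subgroup.mem_sup_right hm)
        (Subgroup.mem_sup_left (Subgroup.mem_sup_right hgen))) (Subgroup.mem_sup_right hym)
    have hL'Meq : (P ⊔ D P h) ⊔ M = H ⊔ P := by
      apply le_antisymm
      · exact sup_le hL'le (hMH.trans le_sup_left)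
      · rw [← b.sup]
        exact sup_le (sup_le le_sup_right hQle) (le_sup_of_le_left le_sup_left)
    -- `L' ⊓ M` is `⊥` or `M`
    have hBnorm : (P ⊔ D P h) ⊔ M ≤ normalizer (((P ⊔ D P h) ⊓ M : Subgroup G) : Set G) := by
      apply sup_le
      · exact (le_inf le_normalizer hL'M).trans Subgroup.inf_normalizer_le_normalizer_inf
      · intro x hx
        rw [Subgroup.mem_normalizer_iff]
        intro z
        have hcomm : ∀ z ∈ M, x * z * x⁻¹ = z := by
          intro z hz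
          have := b.abM hx z hz
          rw [← this]; group
        constructor
        · intro hz
          rw [hcomm z (Subgroup.mem_inf.mp hz).2]; exact hz
        · intro hz
          have hzM : z ∈ M := by
            have h1 := (Subgroup.mem_inf.mp hz).2
            have h2 : z = x⁻¹ * (x * z * x⁻¹) * x := by group
            rw [h2]
            exact mul_mem (mul_mem (inv_mem hx) h1) hx
          rw [hcomm z hzM] at hz; exact hz
    rcases b.irr ((P ⊔ D P h) ⊓ M) inf_le_right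
      ((hQle.trans hBnorm)) ((le_sup_of_le_left le_sup_left : P ≤ (P ⊔ D P h) ⊔ M).trans hBnorm)
      with hbot | htop
    · -- `L'` is a complement; conjugate to `L` by an element of `M`
      have hbot' : M ⊓ (P ⊔ D P h) = ⊥ := by rw [inf_comm]; exact hbot
      have hcardL'M : Nat.card ↥((P ⊔ D P h) ⊔ M) = Nat.card ↥(P ⊔ D P h) * Nat.card M :=
        L33.card_sup_of_disjoint hL'M hbot'
      have hcardeq : Nat.card ↥(P ⊔ D P h) = Nat.card ↥(P ⊔ Q) := by
        have h1 : Nat.card ↥(P ⊔ D P h) * Nat.card M = Nat.card ↥(P ⊔ Q) * Nat.card M := by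
          rw [← hcardL'M, ← hcardLM, hL'Meq, hLMeq]
        exact Nat.eq_of_mul_eq_mul_right Nat.card_pos h1
      have hL'le2 : P ⊔ D P h ≤ (P ⊔ Q) ⊔ M := by rw [hLMeq]; exact hL'le
      obtain ⟨a, haM, haconj⟩ := hL.exists_conj_eq (P ⊔ D P h) hL'le2 hcardeq
      -- elements of `L'` conjugated by `a⁻¹` land in `L`
      have hconj : ∀ z ∈ P ⊔ D P h, a⁻¹ * z * a ∈ P ⊔ Q := by
        intro z hz
        rw [← haconj, mem_conj_smul] at hz
        exact hz
      -- general principle: `n ∈ M`, `y ∈ L`, `n⁻¹ y n ∈ L` ⇒ `n` commutes with `y`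
      have hprinc : ∀ n ∈ M, ∀ y ∈ P ⊔ Q, n⁻¹ * y * n ∈ P ⊔ Q → n * y = y * n := by
        intro n hn y hy hny
        have h1 : n⁻¹ * y * n * y⁻¹ ∈ M ⊓ (P ⊔ Q) := by
          refine Subgroup.mem_inf.mpr ⟨?_, mul_mem hny (inv_mem hy)⟩
          have h2 : y * n * y⁻¹ ∈ M := (Subgroup.mem_normalizer_iff.mp (hLM hy) _).mp hn
          have h3 : n⁻¹ * y * n * y⁻¹ = n⁻¹ * (y * n * y⁻¹) := by group
          rw [h3]; exact mul_mem (inv_mem hn) h2
        rw [hLMbot, Subgroup.mem_bot] at h1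
        have h5 : n⁻¹ * y * n = y := by
          have h6 : n⁻¹ * y * n = (n⁻¹ * y * n * y⁻¹) * y := by group
          rw [h6, h1, one_mul]
        calc n * y = n * (n⁻¹ * y * n) := by rw [h5]
          _ = y * n := by group
      have haC : a ∈ centralizer (P : Set G) := by
        rw [Subgroup.mem_centralizer_iff]
        intro y hy
        have := hprinc a haM y (Subgroup.mem_sup_left hy) (hconj y (Subgroup.mem_sup_left hy))
        exact this.symm
      refine ⟨a, Subgroup.mem_inf.mpr ⟨haM, haC⟩, ?_⟩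
      have hn : m * a ∈ M := mul_mem hm haM
      have hunM : u * (m * a) * u⁻¹ ∈ M :=
        (Subgroup.mem_normalizer_iff.mp (hHM (hQH hu)) _).mp hn
      refine Subgroup.mem_inf.mpr ⟨hunM, ?_⟩
      rw [Subgroup.mem_centralizer_iff]
      intro y hy
      -- `y₁ = u⁻¹ y u ∈ L`
      have huL : u ∈ P ⊔ Q := Subgroup.mem_sup_right hu
      have hy1 : u⁻¹ * y * u ∈ P ⊔ Q :=
        mul_mem (mul_mem (inv_mem huL) (Subgroup.mem_sup_left hy)) huL
      -- `h⁻¹ y h ∈ L'`
      have hhy : h⁻¹ * y * h ∈ P ⊔ D P h := by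
        have hgen : h⁻¹ * (y * h * y⁻¹) ∈ D P h :=
          Subgroup.subset_closure ⟨y, hy, rfl⟩
        have h1 : h⁻¹ * y * h = (h⁻¹ * (y * h * y⁻¹)) * y := by group
        rw [h1]
        exact mul_mem (Subgroup.mem_sup_right hgen) (Subgroup.mem_sup_left hy)
      have h2 : (m * a)⁻¹ * (u⁻¹ * y * u) * (m * a) ∈ P ⊔ Q := by
        have h3 := hconj _ hhy
        have h4 : (m * a)⁻¹ * (u⁻¹ * y * u) * (m * a) = a⁻¹ * (h⁻¹ * y * h) * a := by
          rw [hh]; group
        rw [h4]; exact h3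
      have h5 := hprinc (m * a) hn _ hy1 h2
      -- `(m a) (u⁻¹ y u) = (u⁻¹ y u) (m a)` ⇒ `y (u (m a) u⁻¹) = (u (m a) u⁻¹) y`
      have h6 : y * (u * (m * a) * u⁻¹) = u * ((u⁻¹ * y * u) * (m * a)) * u⁻¹ := by group
      have h7 : u * (m * a) * u⁻¹ * y = u * ((m * a) * (u⁻¹ * y * u)) * u⁻¹ := by group
      rw [h6, h7, h5]
    · -- `M ≤ L'` is impossible
      exfalso
      have hML' : M ≤ P ⊔ D P h := by
        have : M ≤ (P ⊔ D P h) ⊓ M := by rw [htop]
        exact this.trans inf_le_left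
      have hL'eq : P ⊔ D P h = H ⊔ P := by
        rw [← hL'Meq]
        exact (sup_eq_left.mpr hML').symm
      have hcardHP : Nat.card ↥(P ⊔ H) = Nat.card P * Nat.card H :=
        L33.card_sup_of_coprimeAct act.coprimeAct
      have hcardD : Nat.card (D P h) = Nat.card H := by
        have h1 : Nat.card P * Nat.card (D P h) = Nat.card P * Nat.card H := by
          rw [← hcardL', ← hcardHP, hL'eq, sup_comm]
        exact Nat.eq_of_mul_eq_mul_left Nat.card_pos h1
      have hDeq : D P h = H :=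
        Subgroup.eq_of_le_of_card_ge hDH (le_of_eq hcardD.symm)
      apply b.mc.bad
      intro z hz
      have hzH : z ∈ H :=
        (Cfsg.Agent.Lib.Helper1.commutator_le_of_le_normalizer hPH) (Subgroup.mem_inf.mp hz).1
      apply D_inf_le_KK hhH
      rw [hDeq]
      exact Subgroup.mem_inf.mpr ⟨hzH, (Subgroup.mem_inf.mp hz).2⟩
  -- counting
  set C : Subgroup G := M ⊓ centralizer (P : Set G) with hC
  choose! f hf1 hf2 using key
  let φ : ↥C × ↥C → ↥M := fun x =>
    ⟨u⁻¹ * (x.1 : G) * u * (x.2 : G)⁻¹, by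
      have h1 : u⁻¹ * (x.1 : G) * u ∈ M := by
        have := (Subgroup.mem_normalizer_iff.mp (hHM (hQH (inv_mem hu))) _).mp
          (Subgroup.mem_inf.mp x.1.2).1
        simpa using this
      exact mul_mem h1 (inv_mem (Subgroup.mem_inf.mp x.2.2).1)⟩
  have hsurj : Function.Surjective φ := by
    intro m
    refine ⟨(⟨u * ((m : G) * f m) * u⁻¹, hf2 m m.2⟩, ⟨f m, hf1 m m.2⟩), ?_⟩
    apply Subtype.ext
    show u⁻¹ * (u * ((m : G) * f m) * u⁻¹) * u * (f m)⁻¹ = (m : G)
    group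
  have h1 := Nat.card_le_card_of_surjective φ hsurj
  rw [Nat.card_prod] at h1
  rw [pow_two]
  exact h1

end Cfsg.Agent.Lib.Helper24.FL
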