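import Mathlib
import Cfsg.Agent.Lib.Helper24.FL.Defs
import Cfsg.Agent.Lib.Helper24.FL.L07
import Cfsg.Agent.Lib.Helper24.FL.L09
import Cfsg.Agent.Lib.Helper24.FL.L11
import Cfsg.Agent.Lib.Helper1.CoprimeAbelian

set_option autoImplicit false

namespace Cfsg.Agent.Lib.Helper24.FL

open Subgroup

universe u

variable {G : Type u} [Group G]

/-- B2 (c1): `Z₀ := Z(Q) ⊓ C(P) ≠ ⊥` is impossible.  `M ⊓ C(Z₀)` is normalised by `Q`, `P`, so it is
`⊥` (`b.irr`; it is not `M` by `b.faithful`).  `Z₀ ≤ Q ⊓ C(P) = ⁅Q,P⁆ ⊓ C(P) ≤ KK` (`MC.sub` for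
`H₀ := Q ≠ H`).  `Z₀` acts coprimely on the abelian group `X := M ⊓ C(P)` without fixed points, so
`X = ⁅X, Z₀⁆`; each generator `⁅x,z⁆ = (x z x⁻¹) z⁻¹` lies in `KK` by `KK_normalized`.  So
`M ⊓ C(P) ≤ KK`, contradicting `MC.not_le`. -/
theorem B2.c1 [Finite G] {p : ℕ} [Fact p.Prime] {H P M Q : Subgroup G}
    (b : B2 p H P M Q)
    (h : (Q ⊓ Subgroup.centralizer (Q : Set G)) ⊓ Subgroup.centralizer (P : Set G) ≠ ⊥) :
    False := by
  classical
  have mc := b.mc
  obtain ⟨Z₀, hZ₀⟩ : ∃ Z₀ : Subgroup G,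
      Z₀ = (Q ⊓ Subgroup.centralizer (Q : Set G)) ⊓ Subgroup.centralizer (P : Set G) := ⟨_, rfl⟩
  rw [← hZ₀] at h
  have hZQ : Z₀ ≤ Q := by rw [hZ₀]; exact inf_le_left.trans inf_le_left
  have hZCQ : Z₀ ≤ centralizer (Q : Set G) := by rw [hZ₀]; exact inf_le_left.trans inf_le_right
  have hZCP : Z₀ ≤ centralizer (P : Set G) := by rw [hZ₀]; exact inf_le_right
  have hQH : Q ≤ H := by rw [← b.sup]; exact le_sup_right
  have hMH : M ≤ H := b.nrmM.1
  have hHM : H ≤ normalizer (M : Set G) := b.nrmM.2.1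
  have hPM : P ≤ normalizer (M : Set G) := b.nrmM.2.2
  -- `Q ≠ H`
  have hQneH : Q ≠ H := by
    intro hQe
    apply b.neM
    apply Subgroup.eq_bot_of_card_eq
    have hdvd : Nat.card M ∣ Nat.card Q := Subgroup.card_dvd_of_le (by rw [hQe]; exact hMH)
    exact Nat.Coprime.eq_one_of_dvd b.cop hdvd
  -- `Z₀ ≤ KK H P`
  have hZK : Z₀ ≤ KK H P := by
    have h1 := mc.sub hQH hQneH b.PQ
    rw [b.commQ] at h1
    exact (le_inf hZQ hZCP).trans h1
  -- commuting facts
  have hcommM : ∀ a ∈ M, ∀ c ∈ M, a * c = c * a := by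
    intro a ha c hc
    have := b.abM hc
    rw [mem_centralizer_iff] at this
    exact this a ha
  -- Step 1: `M ⊓ C(Z₀) = ⊥`
  have hconjC : ∀ g : G, (∀ z ∈ Z₀, z * g = g * z) → ∀ n ∈ centralizer (Z₀ : Set G),
      g * n * g⁻¹ ∈ centralizer (Z₀ : Set G) := by
    intro g hg n hn
    rw [mem_centralizer_iff] at hn ⊢
    intro z hz
    have h1 := hg z hz
    have h2 := hn z hz
    have h3 : z * g⁻¹ = g⁻¹ * z := by
      have := congrArg (fun t => g⁻¹ * t * g⁻¹) h1
      simp only [mul_assoc, inv_mul_cancel_left, mul_inv_cancel, mul_one] at this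
      exact this.symm
    calc z * (g * n * g⁻¹) = (z * g) * n * g⁻¹ := by group
      _ = g * (z * n) * g⁻¹ := by rw [h1]; group
      _ = g * n * (z * g⁻¹) := by rw [h2]; group
      _ = g * n * g⁻¹ * z := by rw [h3]; group
  have hstep1 : M ⊓ centralizer (Z₀ : Set G) = ⊥ := by
    have hQB : Q ≤ normalizer ((M ⊓ centralizer (Z₀ : Set G) : Subgroup G) : Set G) := by
      apply Cfsg.Agent.Lib.Helper1.le_normalizer_of_forall_conj_mem
      intro q hq n hn
      refine mem_inf.mpr ⟨(mem_normalizer_iff.mp (hHM (hQH hq)) n).mp (mem_inf.mp hn).1, ?_⟩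
      apply hconjC q _ n (mem_inf.mp hn).2
      intro z hz
      have := hZCQ hz
      rw [mem_centralizer_iff] at this
      exact (this q hq).symm
    have hPB : P ≤ normalizer ((M ⊓ centralizer (Z₀ : Set G) : Subgroup G) : Set G) := by
      apply Cfsg.Agent.Lib.Helper1.le_normalizer_of_forall_conj_mem
      intro y hy n hn
      refine mem_inf.mpr ⟨(mem_normalizer_iff.mp (hPM hy) n).mp (mem_inf.mp hn).1, ?_⟩
      apply hconjC y _ n (mem_inf.mp hn).2
      intro z hz
      have := hZCP hz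
      rw [mem_centralizer_iff] at this
      exact (this y hy).symm
    rcases b.irr _ inf_le_left hQB hPB with h0 | h0
    · exact h0
    · exfalso
      apply h
      have hMC : M ≤ centralizer (Z₀ : Set G) := by rw [← h0]; exact inf_le_right
      have hZM : Z₀ ≤ centralizer (M : Set G) := by
        rw [Subgroup.le_centralizer_iff]; exact hMC
      rw [eq_bot_iff, ← b.faithful]
      exact le_inf hZQ hZM
  -- the abelian group `X = M ⊓ C(P)` with the coprime fixed-point-free action of `Z₀`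
  obtain ⟨X, hX⟩ : ∃ X : Subgroup G, X = M ⊓ centralizer (P : Set G) := ⟨_, rfl⟩
  have hXM : X ≤ M := by rw [hX]; exact inf_le_left
  have hXP : X ≤ centralizer (P : Set G) := by rw [hX]; exact inf_le_right
  haveI : IsMulCommutative ↥X :=
    ⟨⟨fun a c => Subtype.ext (hcommM a (hXM a.2) c (hXM c.2))⟩⟩
  have hZX : Z₀ ≤ normalizer (X : Set G) := by
    apply Cfsg.Agent.Lib.Helper1.le_normalizer_of_forall_conj_mem
    intro z hz n hn
    rw [hX] at hn ⊢
    refine mem_inf.mpr ⟨(mem_normalizer_iff.mp (hHM (hQH (hZQ hz))) n).mp (mem_inf.mp hn).1, ?_⟩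
    -- `z` and `n` commute with `P`
    have hzP := hZCP hz
    have hnP := (mem_inf.mp hn).2
    rw [mem_centralizer_iff] at hzP hnP ⊢
    intro y hy
    have h1 := hzP y hy
    have h2 := hnP y hy
    have h3 : y * z⁻¹ = z⁻¹ * y := by
      have := congrArg (fun t => z⁻¹ * t * z⁻¹) h1
      simp only [mul_assoc, inv_mul_cancel_left, mul_inv_cancel, mul_one] at this
      exact this.symm
    calc y * (z * n * z⁻¹) = (y * z) * n * z⁻¹ := by group
      _ = z * (y * n) * z⁻¹ := by rw [h1]; group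
      _ = z * n * (y * z⁻¹) := by rw [h2]; group
      _ = z * n * z⁻¹ * y := by rw [h3]; group
  have hcop : (Nat.card Z₀).Coprime (Nat.card X) := by
    have h1 : Nat.card Z₀ ∣ Nat.card Q := Subgroup.card_dvd_of_le hZQ
    have h2 : Nat.card X ∣ Nat.card M := Subgroup.card_dvd_of_le hXM
    exact Nat.Coprime.coprime_dvd_left h1 (Nat.Coprime.coprime_dvd_right h2 b.cop.symm)
  have hdec := Cfsg.Agent.Lib.Helper1.abelian_centralizer_sup_commutator_eq Z₀ X hZX hcop
  have hfix : X ⊓ centralizer (Z₀ : Set G) = ⊥ := by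
    rw [eq_bot_iff, ← hstep1]
    exact inf_le_inf_right _ hXM
  rw [hfix, bot_sup_eq] at hdec
  -- `⁅X, Z₀⁆ ≤ KK H P`
  have hle : ⁅X, Z₀⁆ ≤ KK H P := by
    rw [Subgroup.commutator_le]
    intro x hx z hz
    rw [commutatorElement_def]
    have hxc : x ∈ H ⊓ centralizer (P : Set G) := mem_inf.mpr ⟨hMH (hXM hx), hXP hx⟩
    exact mul_mem (KK_normalized hxc (hZK hz)) (inv_mem (hZK hz))
  apply mc.not_le b.nrmM b.neM
  rw [← hX, ← hdec]
  exact hle

end Cfsg.Agent.Lib.Helper24.FL
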