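import Mathlib
import Cfsg.Agent.Lib.Helper24.FL.Defs
import Cfsg.Agent.Lib.Helper24.FL.L09
import Cfsg.Agent.Lib.Helper24.FL.L11
import Cfsg.Agent.Lib.Helper11.Semidirect

set_option autoImplicit false

namespace Cfsg.Agent.Lib.Helper24.FL

open Subgroup

universe u

variable {G : Type u} [Group G]

namespace L35

open scoped commutatorElement
open Cfsg.Agent.Lib.Helper1

/-- an element normalising `Q` normalises `Q ⊓ C(Q)` -/
theorem le_normalizer_center {P Q : Subgroup G} (h : P ≤ Subgroup.normalizer (Q : Set G)) :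
    P ≤ Subgroup.normalizer ((Q ⊓ Subgroup.centralizer (Q : Set G) : Subgroup G) : Set G) := by
  apply le_normalizer_of_forall_conj_mem
  intro x hx n hn
  have hxn := h hx
  have hxn' := h (P.inv_mem hx)
  refine Subgroup.mem_inf.mpr ⟨(Subgroup.mem_normalizer_iff.mp hxn n).mp hn.1, ?_⟩
  rw [Subgroup.mem_centralizer_iff]
  intro q hq
  have hq' : x⁻¹ * q * x⁻¹⁻¹ ∈ Q := (Subgroup.mem_normalizer_iff.mp hxn' q).mp hq
  have hc : (x⁻¹ * q * x⁻¹⁻¹) * n = n * (x⁻¹ * q * x⁻¹⁻¹) :=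
    (Subgroup.mem_centralizer_iff.mp hn.2) _ hq'
  calc q * (x * n * x⁻¹) = x * ((x⁻¹ * q * x⁻¹⁻¹) * n) * x⁻¹ := by group
    _ = x * (n * (x⁻¹ * q * x⁻¹⁻¹)) * x⁻¹ := by rw [hc]
    _ = x * n * x⁻¹ * q := by group

/-- an element normalising `Z` normalises `C(Z)` -/
theorem le_normalizer_centralizer' {P Z : Subgroup G} (h : P ≤ Subgroup.normalizer (Z : Set G)) :
    P ≤ Subgroup.normalizer ((Subgroup.centralizer (Z : Set G) : Subgroup G) : Set G) := by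
  apply le_normalizer_of_forall_conj_mem
  intro x hx n hn
  have hxn' := h (P.inv_mem hx)
  rw [Subgroup.mem_centralizer_iff]
  intro q hq
  have hq' : x⁻¹ * q * x⁻¹⁻¹ ∈ Z := (Subgroup.mem_normalizer_iff.mp hxn' q).mp hq
  have hc : (x⁻¹ * q * x⁻¹⁻¹) * n = n * (x⁻¹ * q * x⁻¹⁻¹) :=
    (Subgroup.mem_centralizer_iff.mp hn) _ hq'
  calc q * (x * n * x⁻¹) = x * ((x⁻¹ * q * x⁻¹⁻¹) * n) * x⁻¹ := by group
    _ = x * (n * (x⁻¹ * q * x⁻¹⁻¹)) * x⁻¹ := by rw [hc]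
    _ = x * n * x⁻¹ * q := by group

/-- the centre of a nontrivial `s`-subgroup is nontrivial -/
theorem center_ne_bot [Finite G] {Q : Subgroup G} {s : ℕ} (hs : s.Prime) (hQ : IsPGroup s Q)
    (hne : Q ≠ ⊥) : Q ⊓ Subgroup.centralizer (Q : Set G) ≠ ⊥ := by
  have : Fact s.Prime := ⟨hs⟩
  have hnt : Nontrivial Q := (Subgroup.nontrivial_iff_ne_bot Q).mpr hne
  have hc : Nontrivial (Subgroup.center Q) := hQ.center_nontrivial
  obtain ⟨z, hz⟩ := exists_ne (1 : Subgroup.center Q)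
  intro hbot
  apply hz
  have hmem : ((z : Q) : G) ∈ Q ⊓ Subgroup.centralizer (Q : Set G) := by
    refine Subgroup.mem_inf.mpr ⟨(z : Q).2, ?_⟩
    rw [Subgroup.mem_centralizer_iff]
    intro q hq
    have := Subgroup.mem_center_iff.mp z.2 ⟨q, hq⟩
    exact congrArg Subtype.val this
  rw [hbot, Subgroup.mem_bot] at hmem
  apply Subtype.ext
  apply Subtype.ext
  simpa using hmem

theorem main [Finite G] {p : ℕ} [Fact p.Prime] {H P M Q : Subgroup G}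
    (b : B2 p H P M Q)
    (h1 : (Q ⊓ Subgroup.centralizer (Q : Set G)) ⊓ Subgroup.centralizer (P : Set G) = ⊥)
    (h2 : Q ⊓ Subgroup.centralizer (Q : Set G) ≠ Q) : False := by
  set Z₁ : Subgroup G := Q ⊓ Subgroup.centralizer (Q : Set G) with hZ
  have act := b.mc.act
  have hQH : Q ≤ H := by rw [← b.sup]; exact le_sup_right
  have hMH : M ≤ H := b.nrmM.1
  have hHM : H ≤ Subgroup.normalizer (M : Set G) := b.nrmM.2.1
  have hPM : P ≤ Subgroup.normalizer (M : Set G) := b.nrmM.2.2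
  have hZQ : Z₁ ≤ Q := inf_le_left
  have hZH : Z₁ ≤ H := hZQ.trans hQH
  have hPZ : P ≤ Subgroup.normalizer (Z₁ : Set G) := le_normalizer_center b.PQ
  have hQZ : Q ≤ Subgroup.normalizer (Z₁ : Set G) :=
    le_normalizer_center (Subgroup.le_normalizer)
  obtain ⟨s, hs, hQs⟩ := b.pQ
  have hZne : Z₁ ≠ ⊥ := center_ne_bot hs hQs b.neQ
  -- `⁅Z₁,P⁆ = Z₁`
  have hcopZ : CoprimeAct P Z₁ := act.coprimeAct.mono hZH hPZ
  have hZcomm : ⁅Z₁, P⁆ = Z₁ := by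
    have h3 := hcopZ.commutator_sup_centralizer
    rw [h1, sup_bot_eq] at h3
    exact h3
  -- `M ⊓ Q = ⊥`
  have hMQ : M ⊓ Q = ⊥ := disjoint_iff.mp (Subgroup.disjoint_of_coprime_natCard b.cop)
  have hZM : Z₁ ≤ Subgroup.normalizer (M : Set G) := hZH.trans hHM
  -- `H₀ = M ⊔ Z₁ ≠ H`
  have hH₀H : M ⊔ Z₁ ≤ H := sup_le hMH hZH
  have hH₀ne : M ⊔ Z₁ ≠ H := by
    intro heq
    apply h2
    apply le_antisymm hZQ
    intro q hq
    have hqH₀ : q ∈ M ⊔ Z₁ := by rw [heq]; exact hQH hq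
    obtain ⟨m, hm, z, hz, rfl⟩ :=
      (Cfsg.Agent.Lib.Helper11.mem_sup_iff_exists_mul M Z₁ hZM q).mp hqH₀
    have hmQ : m ∈ Q := by
      have : m = (m * z) * z⁻¹ := by group
      rw [this]
      exact Q.mul_mem hq (Q.inv_mem (hZQ hz))
    have hm1 : m = 1 := by
      have : m ∈ M ⊓ Q := Subgroup.mem_inf.mpr ⟨hm, hmQ⟩
      rwa [hMQ, Subgroup.mem_bot] at this
    rw [hm1, one_mul]
    exact hz
  have hPH₀ : P ≤ Subgroup.normalizer ((M ⊔ Z₁ : Subgroup G) : Set G) := by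
    apply le_normalizer_of_forall_conj_mem
    intro x hx y hy
    obtain ⟨m, hm, z, hz, rfl⟩ :=
      (Cfsg.Agent.Lib.Helper11.mem_sup_iff_exists_mul M Z₁ hZM y).mp hy
    have : x * (m * z) * x⁻¹ = (x * m * x⁻¹) * (x * z * x⁻¹) := by group
    rw [this]
    exact Subgroup.mul_mem _
      (Subgroup.mem_sup_left ((Subgroup.mem_normalizer_iff.mp (hPM hx) m).mp hm))
      (Subgroup.mem_sup_right ((Subgroup.mem_normalizer_iff.mp (hPZ hx) z).mp hz))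
  -- goodness of the proper subgroup `M ⊔ Z₁`
  have hsub := MC.sub b.mc hH₀H hH₀ne hPH₀
  -- `Z₁ ≤ ⁅M ⊔ Z₁, P⁆`
  have hZT : Z₁ ≤ ⁅M ⊔ Z₁, P⁆ := by
    have h3 : ⁅Z₁, P⁆ ≤ ⁅M ⊔ Z₁, P⁆ := Subgroup.commutator_mono le_sup_right le_rfl
    rwa [hZcomm] at h3
  have hTn : M ⊔ Z₁ ≤ Subgroup.normalizer ((⁅M ⊔ Z₁, P⁆ : Subgroup G) : Set G) :=
    le_normalizer_commutator_left
  -- `⁅M, Z₁⁆ ≤ ⁅M ⊔ Z₁, P⁆`
  have hMZT : ⁅M, Z₁⁆ ≤ ⁅M ⊔ Z₁, P⁆ := by
    rw [Subgroup.commutator_le]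
    intro m hm z hz
    have hm' := hTn (Subgroup.mem_sup_left hm : m ∈ M ⊔ Z₁)
    have h4 : ⁅m, z⁆ = (m * z * m⁻¹) * z⁻¹ := by rw [commutatorElement_def]
    rw [h4]
    exact Subgroup.mul_mem _ ((Subgroup.mem_normalizer_iff.mp hm' z).mp (hZT hz))
      (Subgroup.inv_mem _ (hZT hz))
  -- `M ⊓ C(Z₁) = ⊥`
  have hQM : Q ≤ Subgroup.normalizer (M : Set G) := hQH.trans hHM
  have hMC : M ⊓ Subgroup.centralizer (Z₁ : Set G) = ⊥ := by
    have hQn : Q ≤ Subgroup.normalizer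
        ((M ⊓ Subgroup.centralizer (Z₁ : Set G) : Subgroup G) : Set G) := by
      apply le_normalizer_of_forall_conj_mem
      intro x hx n hn
      exact Subgroup.mem_inf.mpr
        ⟨(Subgroup.mem_normalizer_iff.mp (hQM hx) n).mp hn.1,
          (Subgroup.mem_normalizer_iff.mp (le_normalizer_centralizer' hQZ hx) n).mp hn.2⟩
    have hPn : P ≤ Subgroup.normalizer
        ((M ⊓ Subgroup.centralizer (Z₁ : Set G) : Subgroup G) : Set G) := by
      apply le_normalizer_of_forall_conj_mem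
      intro x hx n hn
      exact Subgroup.mem_inf.mpr
        ⟨(Subgroup.mem_normalizer_iff.mp (hPM hx) n).mp hn.1,
          (Subgroup.mem_normalizer_iff.mp (le_normalizer_centralizer' hPZ hx) n).mp hn.2⟩
    rcases b.irr (M ⊓ Subgroup.centralizer (Z₁ : Set G)) inf_le_left hQn hPn with h | h
    · exact h
    · exfalso
      have hMle : M ≤ Subgroup.centralizer (Z₁ : Set G) := by
        rw [← h]; exact inf_le_right
      have hZle : Z₁ ≤ Subgroup.centralizer (M : Set G) := Subgroup.le_centralizer_iff.mp hMle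
      have : Z₁ ≤ Q ⊓ Subgroup.centralizer (M : Set G) := le_inf hZQ hZle
      rw [b.faithful] at this
      exact hZne (le_bot_iff.mp this)
  -- `⁅M, Z₁⁆ = M`
  have hsolvH : Group.IsSolvable H := act.solv
  have hsolvM : Group.IsSolvable M :=
    Group.isSolvable_of_isSolvable_injective (Subgroup.inclusion_injective hMH)
  have hcopMZ : CoprimeAct Z₁ M :=
    ⟨hZM, Nat.Coprime.coprime_dvd_left (Subgroup.card_dvd_of_le hZQ) b.cop.symm, Or.inr hsolvM⟩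
  have hMcomm : ⁅M, Z₁⁆ = M := by
    have h3 := hcopMZ.commutator_sup_centralizer
    rw [hMC, sup_bot_eq] at h3
    exact h3
  have hMT : M ≤ ⁅M ⊔ Z₁, P⁆ := by
    rw [hMcomm] at hMZT
    exact hMZT
  have hfin : M ⊓ Subgroup.centralizer (P : Set G) ≤ KK H P :=
    (inf_le_inf_right _ hMT).trans hsub
  exact MC.not_le b.mc b.nrmM b.neM hfin

end L35

/-- B2 (c2a): `Z₁ := Z(Q)` with `Z₁ ⊓ C(P) = ⊥` and `Z₁ ≠ Q` is impossible.  `Z₁ ≠ ⊥` since `Q ≠ ⊥`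
is an `s`-group (`b.pQ`, `b.neQ`).  `⁅Z₁,P⁆ = Z₁` (`CoprimeAct.commutator_sup_centralizer`),
`H₀ := M ⊔ Z₁ ≠ H` (orders; `M ⊓ Q = ⊥` by `b.cop`), `⁅H₀,P⁆ ⊴ H₀` contains `Z₁` hence `⁅M,Z₁⁆`;
`M ⊓ C(Z₁)` is `Q`,`P`-invariant (`Z₁` is characteristic in `Q`), so it is `⊥` (`b.irr`; not `M` by
`b.faithful`), so `M = ⁅M,Z₁⁆ ≤ ⁅H₀,P⁆` (coprime abelian:
`Cfsg.Agent.Lib.Helper1.abelian_centralizer_sup_commutator_eq`) and `M ⊓ C(P) ≤ KK` by `MC.sub`,
contradicting `MC.not_le` for `N := M`. -/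
theorem B2.c2a [Finite G] {p : ℕ} [Fact p.Prime] {H P M Q : Subgroup G}
    (b : B2 p H P M Q)
    (h1 : (Q ⊓ Subgroup.centralizer (Q : Set G)) ⊓ Subgroup.centralizer (P : Set G) = ⊥)
    (h2 : Q ⊓ Subgroup.centralizer (Q : Set G) ≠ Q) : False :=
  L35.main b h1 h2

end Cfsg.Agent.Lib.Helper24.FL
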