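import Mathlib
import Cfsg.Agent.Lib.Helper24.FL.Defs
import Cfsg.Agent.Lib.Helper10.FrobAction
import Cfsg.Agent.Lib.Helper9.Signalizer

set_option autoImplicit false

namespace Cfsg.Agent.Lib.Helper24.FL

open Subgroup

universe u

variable {G : Type u} [Group G]

namespace L36

/-- A subgroup all of whose elements conjugate `C` into itself normalises `C`. -/
theorem le_normalizer_of_conj_mem {S C : Subgroup G}
    (h : ∀ g ∈ S, ∀ x ∈ C, g * x * g⁻¹ ∈ C) : S ≤ Subgroup.normalizer (C : Set G) := by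
  intro g hg
  rw [Subgroup.mem_normalizer_iff]
  intro x
  refine ⟨h g hg x, fun hx => ?_⟩
  have := h g⁻¹ (inv_mem hg) _ hx
  simpa [mul_assoc] using this

/-- If `P` normalises `M` and `Q`, it normalises `M ⊓ C(Q)`. -/
theorem le_normalizer_inf_centralizer {P M Q : Subgroup G}
    (hPM : P ≤ Subgroup.normalizer (M : Set G)) (hPQ : P ≤ Subgroup.normalizer (Q : Set G)) :
    P ≤ Subgroup.normalizer ((M ⊓ Subgroup.centralizer (Q : Set G) : Subgroup G) : Set G) := by
  apply le_normalizer_of_conj_mem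
  rintro y hy x ⟨hxM, hxQ⟩
  refine ⟨(Subgroup.mem_normalizer_iff.mp (hPM hy) x).mp hxM, ?_⟩
  show y * x * y⁻¹ ∈ Subgroup.centralizer (Q : Set G)
  rw [Subgroup.mem_centralizer_iff]
  intro q hq
  have hq' : y⁻¹ * q * y ∈ Q := by
    have := (Subgroup.mem_normalizer_iff.mp (hPQ (inv_mem hy)) q).mp hq
    simpa using this
  have hc : y⁻¹ * q * y * x = x * (y⁻¹ * q * y) :=
    Subgroup.mem_centralizer_iff.mp hxQ _ hq'
  calc q * (y * x * y⁻¹) = y * (y⁻¹ * q * y * x) * y⁻¹ := by group
    _ = y * (x * (y⁻¹ * q * y)) * y⁻¹ := by rw [hc]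
    _ = y * x * y⁻¹ * q := by group

end L36

/-- B2 (c2b): `Q` abelian with `Q ⊓ C(P) = ⊥`: then `P` acts freely on `Q` and
`Cfsg.Agent.Lib.Helper10.FrobAction.card_eq_card_fixedSub_pow` (Theorem B: `L := ↥(Q ⊔ P)`,
`K := Q.subgroupOf _`, `R := P.subgroupOf _`, acting by conjugation on `↥M`; `C_M(Q) = ⊥` by `b.irr`
and `b.faithful`) gives `|M| = |C_M(P)| ^ p`. -/
theorem B2.c2b [Finite G] {p : ℕ} [Fact p.Prime] {H P M Q : Subgroup G}
    (b : B2 p H P M Q) (hab : Q ≤ Subgroup.centralizer (Q : Set G))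
    (h1 : Q ⊓ Subgroup.centralizer (P : Set G) = ⊥) :
    Nat.card M = Nat.card ↥(M ⊓ Subgroup.centralizer (P : Set G)) ^ p := by
  classical
  have hQH : Q ≤ H := b.sup ▸ le_sup_right
  have hMH : M ≤ H := b.nrmM.1
  have hQM : Q ≤ Subgroup.normalizer (M : Set G) := hQH.trans b.nrmM.2.1
  have hPM : P ≤ Subgroup.normalizer (M : Set G) := b.nrmM.2.2
  have hLM : Q ⊔ P ≤ Subgroup.normalizer (M : Set G) := sup_le hQM hPM
  set ψ : ↥(Q ⊔ P) →* MulAut M := M.normalizerMonoidHom.comp (Subgroup.inclusion hLM) with hψdef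
  have hψ : ∀ (g : ↥(Q ⊔ P)) (m : M), ((ψ g m : M) : G) = (g : G) * m * (g : G)⁻¹ :=
    fun g m => rfl
  set K : Subgroup ↥(Q ⊔ P) := Q.subgroupOf (Q ⊔ P) with hK
  set R : Subgroup ↥(Q ⊔ P) := P.subgroupOf (Q ⊔ P) with hR
  have : K.Normal := Cfsg.Agent.Lib.Helper9.normal_subgroupOf_sup_of_le_normalizer' b.PQ
  have hKsolv : Group.IsSolvable K := by
    apply Group.isSolvable_of_comm
    intro a c
    apply Subtype.ext
    apply Subtype.ext
    show ((a : ↥(Q ⊔ P)) : G) * ((c : ↥(Q ⊔ P)) : G) = ((c : ↥(Q ⊔ P)) : G) * ((a : ↥(Q ⊔ P)) : G)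
    have ha : ((a : ↥(Q ⊔ P)) : G) ∈ Q := Subgroup.mem_subgroupOf.mp a.2
    have hc : ((c : ↥(Q ⊔ P)) : G) ∈ Q := Subgroup.mem_subgroupOf.mp c.2
    exact (Subgroup.mem_centralizer_iff.mp (hab hc) _ ha)
  have hfpf : ∀ r ∈ R, r ≠ 1 → ∀ k ∈ K, r * k = k * r → k = 1 := by
    intro r hr hr1 k hk hrk
    have hrP : (r : G) ∈ P := Subgroup.mem_subgroupOf.mp hr
    have hkQ : (k : G) ∈ Q := Subgroup.mem_subgroupOf.mp hk
    have hr1' : (⟨(r : G), hrP⟩ : P) ≠ 1 := by
      intro h
      apply hr1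
      apply Subtype.ext
      have h' : (r : G) = 1 := congrArg Subtype.val h
      exact h'
    have htop : Subgroup.zpowers (⟨(r : G), hrP⟩ : P) = ⊤ :=
      zpowers_eq_top_of_prime_card b.mc.act.cardP hr1'
    have hcomm : Commute (r : G) (k : G) := congrArg Subtype.val hrk
    have hkC : (k : G) ∈ Subgroup.centralizer (P : Set G) := by
      rw [Subgroup.mem_centralizer_iff]
      intro y hy
      have hy' : (⟨y, hy⟩ : P) ∈ Subgroup.zpowers (⟨(r : G), hrP⟩ : P) := by
        rw [htop]; exact Subgroup.mem_top _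
      obtain ⟨n, hn⟩ := Subgroup.mem_zpowers_iff.mp hy'
      have hn' : (r : G) ^ n = y := by
        have := congrArg Subtype.val hn
        simpa using this
      rw [← hn']
      exact (hcomm.zpow_left n)
    have : (k : G) ∈ Q ⊓ Subgroup.centralizer (P : Set G) := ⟨hkQ, hkC⟩
    rw [h1, Subgroup.mem_bot] at this
    exact Subtype.ext this
  have hnil : Group.IsNilpotent M := by
    obtain ⟨r, hr, hrM⟩ := b.pM
    have := Fact.mk hr
    exact hrM.isNilpotent
  have hcop : (Nat.card ↥(Q ⊔ P)).Coprime (Nat.card M) := by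
    have hd := Cfsg.Agent.Lib.Helper9.card_sup_dvd_of_le_normalizer b.PQ
    apply Nat.Coprime.coprime_dvd_left hd
    apply Nat.Coprime.mul_left b.cop.symm
    rw [b.mc.act.cardP]
    exact (Nat.Coprime.coprime_dvd_left (Subgroup.card_dvd_of_le hMH) b.mc.act.cop).symm
  have hCK : ∀ m : M, (∀ k ∈ K, ψ k m = m) → m = 1 := by
    have hCbot : M ⊓ Subgroup.centralizer (Q : Set G) = ⊥ := by
      have hQC : Q ≤ Subgroup.normalizer
          ((M ⊓ Subgroup.centralizer (Q : Set G) : Subgroup G) : Set G) :=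
        L36.le_normalizer_inf_centralizer hQM Subgroup.le_normalizer
      have hPC : P ≤ Subgroup.normalizer
          ((M ⊓ Subgroup.centralizer (Q : Set G) : Subgroup G) : Set G) :=
        L36.le_normalizer_inf_centralizer hPM b.PQ
      rcases b.irr _ inf_le_left hQC hPC with h | h
      · exact h
      · exfalso
        apply b.neQ
        have hMQ : M ≤ Subgroup.centralizer (Q : Set G) := by
          rw [← h]; exact inf_le_right
        have hQM' : Q ≤ Subgroup.centralizer (M : Set G) := by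
          intro q hq
          rw [Subgroup.mem_centralizer_iff]
          intro m hm
          exact (Subgroup.mem_centralizer_iff.mp (hMQ hm) q hq).symm
        rw [← b.faithful]
        exact (inf_eq_left.mpr hQM').symm
    intro m hm
    have hmC : (m : G) ∈ M ⊓ Subgroup.centralizer (Q : Set G) := by
      refine ⟨m.2, ?_⟩
      show (m : G) ∈ Subgroup.centralizer (Q : Set G)
      rw [Subgroup.mem_centralizer_iff]
      intro q hq
      have h2 := hm ⟨q, (le_sup_left : Q ≤ Q ⊔ P) hq⟩ (Subgroup.mem_subgroupOf.mpr hq)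
      have h3 : q * (m : G) * q⁻¹ = m := by
        have := congrArg Subtype.val h2
        rw [hψ] at this
        exact this
      calc q * (m : G) = q * m * q⁻¹ * q := by group
        _ = m * q := by rw [h3]
    rw [hCbot, Subgroup.mem_bot] at hmC
    exact Subtype.ext hmC
  have key := Cfsg.Agent.Lib.Helper10.FrobAction.card_eq_card_fixedSub_pow K R hKsolv hfpf
    M ψ hnil hcop hCK
  have hcardR : Nat.card R = p := by
    rw [← b.mc.act.cardP]
    exact Nat.card_congr (Subgroup.subgroupOfEquivOfLe (le_sup_right : P ≤ Q ⊔ P)).toEquiv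
  have hfix : (Cfsg.Agent.Lib.Helper10.FrobAction.fixedSub ψ R).map M.subtype =
      M ⊓ Subgroup.centralizer (P : Set G) := by
    ext x
    constructor
    · rintro ⟨m, hm, rfl⟩
      refine ⟨m.2, ?_⟩
      show (m : G) ∈ Subgroup.centralizer (P : Set G)
      rw [Subgroup.mem_centralizer_iff]
      intro y hy
      have h2 := hm ⟨y, (le_sup_right : P ≤ Q ⊔ P) hy⟩ (Subgroup.mem_subgroupOf.mpr hy)
      have h3 : y * (m : G) * y⁻¹ = m := by
        have := congrArg Subtype.val h2
        rw [hψ] at this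
        exact this
      calc y * (m : G) = y * m * y⁻¹ * y := by group
        _ = m * y := by rw [h3]
    · rintro ⟨hxM, hxC⟩
      refine ⟨⟨x, hxM⟩, ?_, rfl⟩
      intro r hr
      apply Subtype.ext
      rw [hψ]
      show (r : G) * x * (r : G)⁻¹ = x
      have hrP : (r : G) ∈ P := Subgroup.mem_subgroupOf.mp hr
      have := Subgroup.mem_centralizer_iff.mp hxC _ hrP
      rw [this]; group
  have hcardfix : Nat.card (Cfsg.Agent.Lib.Helper10.FrobAction.fixedSub ψ R) =
      Nat.card ↥(M ⊓ Subgroup.centralizer (P : Set G)) := by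
    rw [← hfix]
    exact (Subgroup.card_map_of_injective M.subtype_injective).symm
  rw [key, hcardR, hcardfix]

end Cfsg.Agent.Lib.Helper24.FL
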