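import Mathlib
import Cfsg.Agent.Lib.Helper24.FL.Defs

set_option autoImplicit false

namespace Cfsg.Agent.Lib.Helper24.FL

open Subgroup

universe u

namespace L37

open SemidirectProduct
open scoped commutatorElement

variable {H : Type u} [Group H] {K : Type u} [Group K] (φ : K →* MulAut H)

theorem conj_inr_inl (k : K) (n : H) :
    (inr k : H ⋊[φ] K) * inl n * (inr k)⁻¹ = inl (φ k n) := by
  rw [inl_aut, map_inv]

/-- `D Ps (inl h)` lies in the image of the closure of the `h⁻¹ * φ k h`. -/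
theorem D_le_map (h : H) :
    D (inr : K →* H ⋊[φ] K).range (inl h : H ⋊[φ] K) ≤
      (Subgroup.closure {c : H | ∃ k : K, c = h⁻¹ * φ k h}).map (inl : H →* H ⋊[φ] K) := by
  unfold D
  rw [Subgroup.closure_le]
  rintro c ⟨y, hy, rfl⟩
  obtain ⟨k, rfl⟩ := hy
  rw [conj_inr_inl, ← map_inv, ← map_mul]
  exact Subgroup.mem_map_of_mem _ (Subgroup.subset_closure ⟨k, rfl⟩)

theorem fixed_of_mem_centralizer {c : H}
    (hc : (inl c : H ⋊[φ] K) ∈ Subgroup.centralizer ((inr : K →* H ⋊[φ] K).range : Set (H ⋊[φ] K)))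
    (k : K) : φ k c = c := by
  rw [Subgroup.mem_centralizer_iff] at hc
  have h1 := hc (inr k) ⟨k, rfl⟩
  have h2 : (inr k : H ⋊[φ] K) * inl c * (inr k)⁻¹ = inl c := by
    rw [h1]; group
  rw [conj_inr_inl] at h2
  exact inl_injective h2

theorem mem_centralizer_of_fixed {c : H} (hc : ∀ k : K, φ k c = c) :
    (inl c : H ⋊[φ] K) ∈ Subgroup.centralizer ((inr : K →* H ⋊[φ] K).range : Set (H ⋊[φ] K)) := by
  rw [Subgroup.mem_centralizer_iff]
  rintro y ⟨k, rfl⟩
  have h2 := conj_inr_inl φ k c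
  rw [hc k] at h2
  calc (inr k : H ⋊[φ] K) * inl c = (inr k * inl c * (inr k)⁻¹) * inr k := by group
    _ = inl c * inr k := by rw [h2]

theorem inl_mem_commutator {c : H}
    (hc : c ∈ Subgroup.closure {c : H | ∃ h : H, ∃ k : K, c = h⁻¹ * φ k h}) :
    (inl c : H ⋊[φ] K) ∈ ⁅(inl : H →* H ⋊[φ] K).range, (inr : K →* H ⋊[φ] K).range⁆ := by
  have h1 : Subgroup.closure {c : H | ∃ h : H, ∃ k : K, c = h⁻¹ * φ k h} ≤
      (⁅(inl : H →* H ⋊[φ] K).range, (inr : K →* H ⋊[φ] K).range⁆).comap (inl : H →* H ⋊[φ] K) := by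
    rw [Subgroup.closure_le]
    rintro c ⟨h, k, rfl⟩
    rw [SetLike.mem_coe, Subgroup.mem_comap]
    have h2 : (inl (h⁻¹ * φ k h) : H ⋊[φ] K) = ⁅(inl h⁻¹ : H ⋊[φ] K), inr k⁆ := by
      rw [commutatorElement_def, map_mul, ← conj_inr_inl, map_inv, inv_inv]
      group
    rw [h2]
    exact Subgroup.commutator_mem_commutator ⟨h⁻¹, rfl⟩ ⟨k, rfl⟩
  exact h1 hc

theorem finite_sdp [Finite H] [Finite K] : Finite (H ⋊[φ] K) :=
  Finite.of_equiv (H × K) (SemidirectProduct.equivProd).symm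

end L37

/-- Translation of the internal statement to the `MulAut` form of S3816.  Take
`G := H ⋊[φ] ↥(Subgroup.zpowers x)` (`φ := (Subgroup.zpowers x).subtype`, `SemidirectProduct`),
`Hs := (SemidirectProduct.inl).range`, `Ps := (SemidirectProduct.inr).range`.  Then `Act p Hs Ps`
(`|Ps| = orderOf x = p`, `Hs` normal, `|Hs| = |H|`), `inr y * inl h * (inr y)⁻¹ = inl (y h)`, so
`inl` maps `closure {h⁻¹ * (x^i) h}` onto `D Ps (inl h)`, the big closure onto `⁅Hs,Ps⁆`
(generators `⁅h⁻¹, y⁆`-type), and the fixed points of `x` onto `Hs ⊓ C(Ps)`.  `hmain` is the internal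
theorem (`Main.main`), passed as a hypothesis to keep this file independent of the other leaves.
`≥` is trivial. -/
theorem translate {H : Type u} [Group H] [Finite H] [Group.IsSolvable H] {p : ℕ} [Fact p.Prime]
    (hmain : ∀ {G : Type u} [Group G] [Finite G] (H' P' : Subgroup G), Act p H' P' → Good H' P')
    (hcop : (Nat.card H).Coprime p) (x : MulAut H) (hx : orderOf x = p) :
    Subgroup.closure {c : H | ∃ h : H, ∃ i : ℕ, c = h⁻¹ * (x ^ i) h} ⊓
        (x : H →* H).eqLocus (MonoidHom.id H) =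
      ⨆ h : H, Subgroup.closure {c : H | ∃ i : ℕ, c = h⁻¹ * (x ^ i) h} ⊓
        (x : H →* H).eqLocus (MonoidHom.id H) := by
  classical
  have hp : p.Prime := Fact.out
  have hfin : IsOfFinOrder x := by
    rw [← orderOf_pos_iff, hx]; exact hp.pos
  -- every element of `zpowers x` is a natural power
  have hpow : ∀ k : ↥(Subgroup.zpowers x), ∃ i : ℕ, x ^ i = (k : MulAut H) := by
    intro k
    have h1 : (k : MulAut H) ∈ Submonoid.powers x :=
      (hfin.mem_powers_iff_mem_zpowers).mpr k.2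
    obtain ⟨i, hi⟩ := h1
    exact ⟨i, hi⟩
  let φ : ↥(Subgroup.zpowers x) →* MulAut H := (Subgroup.zpowers x).subtype
  have hφ : ∀ k : ↥(Subgroup.zpowers x), φ k = (k : MulAut H) := fun k => rfl
  have : Finite ↥(Subgroup.zpowers x) := Nat.finite_of_card_ne_zero (by
    rw [Nat.card_zpowers, hx]; exact hp.ne_zero)
  have : Finite (H ⋊[φ] ↥(Subgroup.zpowers x)) := L37.finite_sdp φ
  set Hs : Subgroup (H ⋊[φ] ↥(Subgroup.zpowers x)) := (SemidirectProduct.inl).range with hHs
  set Ps : Subgroup (H ⋊[φ] ↥(Subgroup.zpowers x)) := (SemidirectProduct.inr).range with hPs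
  have hHsn : Hs.Normal := by
    rw [hHs, SemidirectProduct.range_inl_eq_ker_rightHom]; infer_instance
  have act : Act p Hs Ps := by
    refine ⟨?_, ?_, ?_, ?_⟩
    · rw [Subgroup.normalizer_eq_top_iff.mpr hHsn]; exact le_top
    · rw [hPs, Nat.card_congr (MonoidHom.ofInjective SemidirectProduct.inr_injective).symm.toEquiv,
        Nat.card_zpowers, hx]
    · rw [hHs, Nat.card_congr (MonoidHom.ofInjective SemidirectProduct.inl_injective).symm.toEquiv]
      exact hcop
    · rw [hHs]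
      exact Group.isSolvable_of_surjective (MonoidHom.rangeRestrict_surjective _)
  have hgood := hmain Hs Ps act
  apply le_antisymm
  · intro c hc
    obtain ⟨hc1, hc2⟩ := Subgroup.mem_inf.mp hc
    have hfix : ∀ k : ↥(Subgroup.zpowers x), φ k c = c := by
      intro k
      obtain ⟨i, hi⟩ := hpow k
      rw [hφ, ← hi]
      have hxc : x c = c := hc2
      clear hi
      induction i with
      | zero => simp
      | succ n ih => rw [pow_succ, MulAut.mul_apply, hxc, ih]
    have hcl : c ∈ Subgroup.closure {c : H | ∃ h : H, ∃ k : ↥(Subgroup.zpowers x), c = h⁻¹ * φ k h} := by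
      refine (Subgroup.closure_mono ?_) hc1
      rintro c ⟨h, i, rfl⟩
      exact ⟨h, ⟨x ^ i, Subgroup.npow_mem_zpowers x i⟩, rfl⟩
    have h1 : (SemidirectProduct.inl c : H ⋊[φ] ↥(Subgroup.zpowers x)) ∈
        ⁅Hs, Ps⁆ ⊓ Subgroup.centralizer (Ps : Set (H ⋊[φ] ↥(Subgroup.zpowers x))) :=
      Subgroup.mem_inf.mpr ⟨L37.inl_mem_commutator φ hcl, L37.mem_centralizer_of_fixed φ hfix⟩
    have h2 := hgood h1
    -- `KK Hs Ps` lies in the image of the right hand side
    have h3 : KK Hs Ps ≤ (⨆ h : H, Subgroup.closure {c : H | ∃ i : ℕ, c = h⁻¹ * (x ^ i) h} ⊓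
        (x : H →* H).eqLocus (MonoidHom.id H)).map
          (SemidirectProduct.inl : H →* H ⋊[φ] ↥(Subgroup.zpowers x)) := by
      unfold KK
      apply iSup_le
      rintro ⟨h', h, rfl⟩
      intro d hd
      obtain ⟨hd1, hd2⟩ := Subgroup.mem_inf.mp hd
      obtain ⟨c', hc', rfl⟩ := L37.D_le_map φ h hd1
      apply Subgroup.mem_map_of_mem
      have h4 : c' ∈ Subgroup.closure {c : H | ∃ i : ℕ, c = h⁻¹ * (x ^ i) h} := by
        refine (Subgroup.closure_mono ?_) hc'
        rintro c ⟨k, rfl⟩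
        obtain ⟨i, hi⟩ := hpow k
        exact ⟨i, by rw [hφ, hi]⟩
      have h5 : c' ∈ (x : H →* H).eqLocus (MonoidHom.id H) := by
        have := L37.fixed_of_mem_centralizer φ hd2 ⟨x, Subgroup.mem_zpowers x⟩
        exact this
      exact (le_iSup (fun h : H => Subgroup.closure {c : H | ∃ i : ℕ, c = h⁻¹ * (x ^ i) h} ⊓
        (x : H →* H).eqLocus (MonoidHom.id H)) h) (Subgroup.mem_inf.mpr ⟨h4, h5⟩)
    obtain ⟨c'', hc'', heq⟩ := h3 h2
    rw [← SemidirectProduct.inl_injective heq]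
    exact hc''
  · apply iSup_le
    intro h
    apply inf_le_inf_right
    apply Subgroup.closure_mono
    rintro c ⟨i, rfl⟩
    exact ⟨h, i, rfl⟩

end Cfsg.Agent.Lib.Helper24.FL
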