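import Mathlib
import Cfsg.Agent.Lib.Helper24.FL.Defs
import Cfsg.Agent.Lib.Helper24.FL.L11
import Cfsg.Agent.Lib.Helper24.FL.L17
import Cfsg.Agent.Lib.Helper24.FL.L21
import Cfsg.Agent.Lib.Helper24.FL.L27
import Cfsg.Agent.Lib.Helper24.FL.L31
import Cfsg.Agent.Lib.Helper24.FL.L32
import Cfsg.Agent.Lib.Helper24.FL.L33
import Cfsg.Agent.Lib.Helper24.FL.L34
import Cfsg.Agent.Lib.Helper24.FL.L35
import Cfsg.Agent.Lib.Helper24.FL.L36
import Cfsg.Agent.Lib.Helper24.FL.L37

/-!
# S3816: assembly (helper24)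
-/

set_option autoImplicit false

namespace Cfsg.Agent.Lib.Helper24.FL

open Subgroup

universe u

/-- The configuration `B2` is contradictory for odd `p`. -/
theorem B2.false {G : Type u} [Group G] [Finite G] {p : ℕ} [Fact p.Prime] (hp2 : p ≠ 2)
    {H P M Q : Subgroup G} (b : B2 p H P M Q) : False := by
  by_cases h1 : (Q ⊓ Subgroup.centralizer (Q : Set G)) ⊓ Subgroup.centralizer (P : Set G) = ⊥
  · by_cases h2 : Q ⊓ Subgroup.centralizer (Q : Set G) = Q
    · have hab : Q ≤ Subgroup.centralizer (Q : Set G) := inf_eq_left.mp h2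
      have hQP : Q ⊓ Subgroup.centralizer (P : Set G) = ⊥ := by rw [← h2]; exact h1
      obtain ⟨u, hu, hD⟩ := b.exists_u
      have hle := b.card_le hu hD
      have heq := b.c2b hab hQP
      -- `x := |C_M(P)| ≥ 2`
      have hx : 2 ≤ Nat.card ↥(M ⊓ Subgroup.centralizer (P : Set G)) := by
        by_contra hlt
        have h1' : Nat.card ↥(M ⊓ Subgroup.centralizer (P : Set G)) = 1 := by
          have hpos : 0 < Nat.card ↥(M ⊓ Subgroup.centralizer (P : Set G)) := Nat.card_pos
          omega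
        have hbot : M ⊓ Subgroup.centralizer (P : Set G) = ⊥ :=
          Subgroup.card_eq_one.mp h1'
        exact b.mc.not_le b.nrmM b.neM (hbot ▸ bot_le)
      have hp3 : 3 ≤ p := by
        have := (Fact.out : p.Prime).two_le
        omega
      have hlt : Nat.card ↥(M ⊓ Subgroup.centralizer (P : Set G)) ^ 2 <
          Nat.card ↥(M ⊓ Subgroup.centralizer (P : Set G)) ^ p :=
        Nat.pow_lt_pow_right hx (by omega)
      omega
    · exact b.c2a h1 h2
  · exact b.c1 h1

/-- **Main theorem** (internal form). -/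
theorem main (p : ℕ) [Fact p.Prime] (hp2 : p ≠ 2) :
    ∀ (n : ℕ) {G : Type u} [Group G] [Finite G] (H P : Subgroup G), Nat.card H = n →
      Act p H P → Good H P := by
  intro n
  induction n using Nat.strong_induction_on with
  | _ n ih =>
    intro G _ _ H P hn hA
    by_contra hbad
    have mc : MC p H P :=
      ⟨hA, hbad, fun {G'} _ _ H' P' hlt hA' => ih (Nat.card H') (hn ▸ hlt) H' P' rfl hA'⟩
    obtain ⟨A, hMin⟩ := mc.exists_minA
    by_cases hab : A ≤ Subgroup.centralizer (A : Set G)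
    · obtain ⟨S, hS, hsup⟩ := hMin.caseI_exists mc hab
      exact (hMin.caseI_B2 hp2 mc hab hS hsup).false hp2
    · exact hMin.caseII hp2 mc hab

theorem main' (p : ℕ) [Fact p.Prime] (hp2 : p ≠ 2) {G : Type u} [Group G] [Finite G]
    (H P : Subgroup G) (hA : Act p H P) : Good H P :=
  main p hp2 (Nat.card H) H P rfl hA

end Cfsg.Agent.Lib.Helper24.FL
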